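import Mathlib.RingTheory.MvPolynomial.EulerIdentity
import Mathlib.LinearAlgebra.Matrix.ToLin
import Mathlib.Algebra.MvPolynomial.Funext
import Mathlib.Tactic
import Mathlib.Algebra.CharZero.Infinite

/-!
Directional derivatives of forms of degree at most three, expansions along lines.
-/

namespace Groth.Agent.Cubic.Basic

open MvPolynomial

variable {σ : Type*} {K : Type*} [Field K]

theorem pderiv_comm' (i j : σ) (f : MvPolynomial σ K) :
    pderiv i (pderiv j f) = pderiv j (pderiv i f) := by
  classical
  induction f using MvPolynomial.induction_on with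
  | C a => simp
  | add p q hp hq => simp [hp, hq]
  | mul_X p k hp =>
    simp only [pderiv_mul, map_add, pderiv_X, Pi.single_apply]
    split_ifs <;> simp [hp] <;> ring

variable [Fintype σ]

/-- Derivative in direction `w`. -/
noncomputable def dd (w : σ → K) (g : MvPolynomial σ K) : MvPolynomial σ K :=
  ∑ i, w i • pderiv i g

theorem dd_add_left (a b : σ → K) (g : MvPolynomial σ K) :
    dd (a + b) g = dd a g + dd b g := by
  simp [dd, add_smul, Finset.sum_add_distrib]

theorem dd_smul_left (c : K) (a : σ → K) (g : MvPolynomial σ K) :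
    dd (c • a) g = c • dd a g := by
  simp [dd, Finset.smul_sum, smul_smul]

theorem dd_comm (a b : σ → K) (g : MvPolynomial σ K) :
    dd a (dd b g) = dd b (dd a g) := by
  simp only [dd, map_sum, Derivation.map_smul, Finset.smul_sum]
  rw [Finset.sum_comm]
  exact Finset.sum_congr rfl fun i _ => Finset.sum_congr rfl fun j _ => by
    rw [pderiv_comm' j i, smul_comm]

theorem isHomogeneous_dd {n : ℕ} (w : σ → K) {g : MvPolynomial σ K} (hg : g.IsHomogeneous n) :
    (dd w g).IsHomogeneous (n - 1) := by
  refine MvPolynomial.IsHomogeneous.sum _ _ _ fun i _ => ?_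
  rw [smul_eq_C_mul]
  exact hg.pderiv.C_mul (w i)

theorem eval_dd (v w : σ → K) (g : MvPolynomial σ K) :
    eval v (dd w g) = ∑ i, w i * eval v (pderiv i g) := by
  simp [dd, map_sum]

theorem eval_dd_single [DecidableEq σ] (v : σ → K) (i : σ) (g : MvPolynomial σ K) :
    eval v (dd (Pi.single i 1) g) = eval v (pderiv i g) := by
  simp [eval_dd, Pi.single_apply]

theorem euler {n : ℕ} {g : MvPolynomial σ K} (hg : g.IsHomogeneous n) (v : σ → K) :
    eval v (dd v g) = n * eval v g := by
  have h := congrArg (eval v) hg.sum_X_mul_pderiv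
  simpa [eval_dd, map_sum] using h

theorem eval_deg_zero {g : MvPolynomial σ K} (hg : g.IsHomogeneous 0) (v v' : σ → K) :
    eval v g = eval v' g := by
  have h : g = C (coeff 0 g) := totalDegree_eq_zero_iff_eq_C.mp (Nat.le_zero.mp hg.totalDegree_le)
  rw [h]
  simp

/-- The first derivative of a cubic form, as a function of the point and the direction. -/
noncomputable def B (f : MvPolynomial σ K) (v w : σ → K) : K := eval v (dd w f)

theorem B_add_right (f : MvPolynomial σ K) (v a b : σ → K) :
    B f v (a + b) = B f v a + B f v b := by simp [B, dd_add_left]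

theorem B_smul_right (f : MvPolynomial σ K) (v : σ → K) (c : K) (a : σ → K) :
    B f v (c • a) = c * B f v a := by simp [B, dd_smul_left]

theorem B_sub_right (f : MvPolynomial σ K) (v a b : σ → K) :
    B f v (a - b) = B f v a - B f v b := by
  have := B_add_right f v (a - b) b
  rw [sub_add_cancel] at this
  linear_combination -this

theorem B_zero_right (f : MvPolynomial σ K) (v : σ → K) : B f v 0 = 0 := by simp [B, dd]

theorem B_self {n : ℕ} {f : MvPolynomial σ K} (hf : f.IsHomogeneous n) (v : σ → K) :
    B f v v = n * eval v f := euler hf v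

/-- `B f v` as a linear form. -/
noncomputable def Bₗ (f : MvPolynomial σ K) (v : σ → K) : (σ → K) →ₗ[K] K where
  toFun := B f v
  map_add' := B_add_right f v
  map_smul' := by intro c a; simpa using B_smul_right f v c a

@[simp] theorem Bₗ_apply (f : MvPolynomial σ K) (v w : σ → K) : Bₗ f v w = B f v w := rfl

theorem exists_pderiv_ne_of_B_ne {f : MvPolynomial σ K} {v : σ → K}
    (h : ∃ w, B f v w ≠ 0) : ∃ i, eval v (pderiv i f) ≠ 0 := by
  by_contra hc
  push Not at hc
  obtain ⟨w, hw⟩ := h
  exact hw (by simp [B, eval_dd, hc])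

theorem exists_B_ne_of_pderiv_ne {f : MvPolynomial σ K} {v : σ → K}
    (h : ∃ i, eval v (pderiv i f) ≠ 0) : ∃ w, B f v w ≠ 0 := by
  classical
  obtain ⟨i, hi⟩ := h
  exact ⟨Pi.single i 1, by rwa [B, eval_dd_single]⟩

variable [CharZero K]

theorem eval_add_deg_one {g : MvPolynomial σ K} (hg : g.IsHomogeneous 1) (v w : σ → K) :
    eval (v + w) g = eval v g + eval w g := by
  have e : ∀ u, eval u g = eval (0 : σ → K) (dd u g) := fun u => by
    have h := euler hg u
    rw [eval_deg_zero (isHomogeneous_dd u hg) u 0] at h
    simpa using h.symm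
  rw [e, e v, e w, dd_add_left, map_add]

theorem eval_smul_deg_one {g : MvPolynomial σ K} (hg : g.IsHomogeneous 1) (c : K) (v : σ → K) :
    eval (c • v) g = c * eval v g := by
  have e : ∀ u, eval u g = eval (0 : σ → K) (dd u g) := fun u => by
    have h := euler hg u
    rw [eval_deg_zero (isHomogeneous_dd u hg) u 0] at h
    simpa using h.symm
  rw [e, e v, dd_smul_left, smul_eval]

theorem eval_deg_one_eq {g : MvPolynomial σ K} (hg : g.IsHomogeneous 1) (v u : σ → K) :
    eval v g = eval u (dd v g) := by
  have h := euler hg v
  rw [eval_deg_zero (isHomogeneous_dd v hg) v u] at h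
  simpa using h.symm

/-- Symmetry of the polarisation of a quadratic form. -/
theorem B_symm_deg_two {g : MvPolynomial σ K} (hg : g.IsHomogeneous 2) (v w : σ → K) :
    B g v w = B g w v := by
  rw [B, B, eval_deg_one_eq (isHomogeneous_dd w hg) v 0,
    eval_deg_one_eq (isHomogeneous_dd v hg) w 0, dd_comm]

theorem eval_line_deg_two {g : MvPolynomial σ K} (hg : g.IsHomogeneous 2) (v w : σ → K) (t : K) :
    eval (v + t • w) g = eval v g + t * B g v w + t ^ 2 * eval w g := by
  have h := euler hg (v + t • w)
  rw [dd_add_left, dd_smul_left, map_add, smul_eval,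
    eval_add_deg_one (isHomogeneous_dd v hg), eval_add_deg_one (isHomogeneous_dd w hg),
    eval_smul_deg_one (isHomogeneous_dd v hg), eval_smul_deg_one (isHomogeneous_dd w hg),
    euler hg v, euler hg w] at h
  have hs := B_symm_deg_two hg v w
  simp only [B] at hs ⊢
  push_cast at h
  linear_combination -(h / 2) - (t / 2) * hs

theorem eval_line {f : MvPolynomial σ K} (hf : f.IsHomogeneous 3) (v w : σ → K) (t : K) :
    eval (v + t • w) f = eval v f + t * B f v w + t ^ 2 * B f w v + t ^ 3 * eval w f := by
  have hv := isHomogeneous_dd v hf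
  have hw := isHomogeneous_dd w hf
  have h := euler hf (v + t • w)
  rw [dd_add_left, dd_smul_left, map_add, smul_eval,
    eval_line_deg_two hv, eval_line_deg_two hw, euler hf v, euler hf w] at h
  have e1 : B (dd v f) v w = 2 * B f v w := by
    have := euler hw v
    simp only [B]
    rw [dd_comm]
    simpa using this
  have e2 : B (dd w f) v w = 2 * B f w v := by
    rw [B_symm_deg_two hw]
    have := euler hv w
    simp only [B]
    rw [dd_comm]
    simpa using this
  simp only [B] at h e1 e2 ⊢
  push_cast at h
  linear_combination -(h / 3) + (t / 3) * e1 + (t ^ 2 / 3) * e2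

theorem eval_smul_cubic {f : MvPolynomial σ K} (hf : f.IsHomogeneous 3) (c : K) (v : σ → K) :
    eval (c • v) f = c ^ 3 * eval v f := by
  have h := eval_line hf 0 v c
  have z : eval (0 : σ → K) f = 0 := by
    have := eval_line hf 0 0 1
    simp only [zero_add, smul_zero, B_zero_right, mul_zero, add_zero] at this
    linear_combination -this
  have z1 : eval (0 : σ → K) (dd v f) = 0 := by
    have := eval_line_deg_two (isHomogeneous_dd v hf) 0 0 1
    simp only [zero_add, smul_zero, B_zero_right, mul_zero, add_zero] at this
    linear_combination -this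
  rw [z, show B f 0 v = 0 from z1, B_zero_right] at h
  simpa using h

/-- `B f · w` restricted to a line. -/
theorem B_line_left {f : MvPolynomial σ K} (hf : f.IsHomogeneous 3) (v u w : σ → K) (t : K) :
    B f (v + t • u) w = B f v w + t * B (dd u f) v w + t ^ 2 * B f u w := by
  have h := eval_line_deg_two (isHomogeneous_dd w hf) v u t
  simp only [B] at h ⊢
  rw [dd_comm w u]
  exact h

theorem B_smul_left {f : MvPolynomial σ K} (hf : f.IsHomogeneous 3) (c : K) (v w : σ → K) :
    B f (c • v) w = c ^ 2 * B f v w := by
  have z : B f 0 w = 0 := by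
    have := eval_line_deg_two (isHomogeneous_dd w hf) 0 0 1
    simp only [zero_add, smul_zero, B_zero_right, mul_zero, add_zero] at this
    simp only [B]
    linear_combination -this
  have h := B_line_left hf 0 v w c
  have z2 : B (dd v f) 0 w = 0 := by
    rw [B_symm_deg_two (isHomogeneous_dd v hf), B_zero_right]
  simpa [z, z2] using h

theorem eval_subst {m : Type*} [Fintype m] (A : Matrix σ m K) (f : MvPolynomial σ K) (v : m → K) :
    eval v (aeval (fun i : σ => ∑ j, C (A i j) * X j) f) = eval (A.mulVec v) f := by
  induction f using MvPolynomial.induction_on with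
  | C a => simp
  | add p q hp hq => rw [map_add, map_add, hp, hq, map_add]
  | mul_X p k hp =>
    rw [map_mul, map_mul, hp, map_mul]
    simp [Matrix.mulVec, dotProduct]

/-- Substitution by `A` multiplies `f` by `c` iff it does so pointwise. -/
theorem subst_eq_iff (A : Matrix σ σ K) (f : MvPolynomial σ K) (c : K) :
    aeval (fun i : σ => ∑ j, C (A i j) * X j) f = C c * f ↔
      ∀ v, eval (A.mulVec v) f = c * eval v f := by
  constructor
  · intro h v
    rw [← eval_subst, h]
    simp
  · intro h
    refine MvPolynomial.funext fun v => ?_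
    rw [eval_subst, h]
    simp

end Groth.Agent.Cubic.Basic
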