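import Mathlib.RingTheory.Nullstellensatz
import Mathlib.RingTheory.Ideal.KrullsHeightTheorem
import Mathlib.RingTheory.Polynomial.Basic
import Mathlib.Tactic

/-!
Two plane curves meet: two polynomials in three variables vanishing at the origin have another
common zero, over an algebraically closed field.
-/

namespace Groth.Agent.Cubic.CommonZero

open MvPolynomial

variable {K : Type*} [Field K]

/-- Kill the first `i` variables. -/
noncomputable def kill (i : ℕ) : MvPolynomial (Fin 3) K →ₐ[K] MvPolynomial (Fin 3) K :=
  MvPolynomial.aeval fun j => if (j : ℕ) < i then 0 else X j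

theorem kill_comp {i j : ℕ} (h : i ≤ j) :
    (kill j).comp (kill (K := K) i) = kill j := by
  refine MvPolynomial.algHom_ext fun l => ?_
  simp only [kill, AlgHom.comp_apply, aeval_X]
  split_ifs with h1 h2
  · simp
  · omega
  · simp [show ¬ (l : ℕ) < i from h1, *]
  · simp [*]

theorem ker_kill_lt {i : ℕ} (hi : i < 3) :
    RingHom.ker (kill (K := K) i) < RingHom.ker (kill (K := K) (i + 1)) := by
  refine lt_of_le_of_ne ?_ fun h => ?_
  · intro p hp
    rw [RingHom.mem_ker] at hp ⊢
    have := DFunLike.congr_fun (kill_comp (K := K) (Nat.le_succ i)) p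
    rw [AlgHom.comp_apply, hp, map_zero] at this
    exact this.symm
  · have h1 : (X ⟨i, hi⟩ : MvPolynomial (Fin 3) K) ∈ RingHom.ker (kill (K := K) (i + 1)) := by
      simp [RingHom.mem_ker, kill]
    rw [← h] at h1
    simp [RingHom.mem_ker, kill, X_ne_zero] at h1

theorem three_le_height_origin :
    3 ≤ (RingHom.ker (kill (K := K) 3)).height := by
  have hp : ∀ i, (RingHom.ker (kill (K := K) i)).IsPrime := fun i => RingHom.ker_isPrime _
  have key : ∀ i : ℕ, i ≤ 3 → (i : ℕ∞) ≤ (RingHom.ker (kill (K := K) i)).height := by
    intro i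
    induction i with
    | zero => simp
    | succ i ih =>
      intro hi
      have := hp i
      have h := Ideal.height_strict_mono_of_isPrime (ker_kill_lt (K := K) (show i < 3 by omega))
      rcases eq_or_ne (RingHom.ker (kill (K := K) (i + 1))).height ⊤ with ht | ht
      · simp [ht]
      · push_cast
        exact Order.add_one_le_of_lt (lt_of_le_of_lt (ih (by omega)) h)
  exact_mod_cast key 3 le_rfl

theorem exists_common_zero [IsAlgClosed K] (f g : MvPolynomial (Fin 3) K)
    (hf : eval (0 : Fin 3 → K) f = 0) (hg : eval (0 : Fin 3 → K) g = 0) :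
    ∃ v : Fin 3 → K, v ≠ 0 ∧ eval v f = 0 ∧ eval v g = 0 := by
  classical
  by_contra hc
  push Not at hc
  set I : Ideal (MvPolynomial (Fin 3) K) := Ideal.span {f, g} with hI
  have hz : zeroLocus K I = {0} := by
    ext v
    simp only [hI, zeroLocus_span, Set.mem_setOf_eq, Set.mem_singleton_iff, Set.mem_insert_iff]
    constructor
    · intro h
      by_contra hv
      exact hc v hv (by simpa using h f (Or.inl rfl)) (by simpa using h g (Or.inr rfl))
    · rintro rfl p (rfl | rfl)
      · simpa using hf
      · simpa using hg
  have hrad : I.radical = RingHom.ker (kill (K := K) 3) := by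
    rw [← vanishingIdeal_zeroLocus_eq_radical (K := K), hz]
    ext p
    rw [mem_vanishingIdeal_singleton_iff, RingHom.mem_ker]
    have : kill (K := K) 3 p = C (eval (0 : Fin 3 → K) p) := by
      have h : kill (K := K) 3 = (Algebra.ofId K (MvPolynomial (Fin 3) K)).comp (aeval (0 : Fin 3 → K)) :=
        MvPolynomial.algHom_ext fun l => by simp [kill, l.2]
      rw [h]
      rfl
    rw [this]
    simp
  have hp : (RingHom.ker (kill (K := K) 3)).IsPrime := RingHom.ker_isPrime _
  have hmin : RingHom.ker (kill (K := K) 3) ∈ I.minimalPrimes := by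
    refine ⟨⟨hp, ?_⟩, fun q hq _ => ?_⟩
    · rw [← hrad]; exact Ideal.le_radical
    · rw [← hrad]; exact hq.1.radical_le_iff.mpr hq.2
  have h2 : (RingHom.ker (kill (K := K) 3)).height ≤ 2 := by
    have hs : I = Ideal.span (({f, g} : Finset (MvPolynomial (Fin 3) K)) : Set _) := by
      simp [hI]
    rw [hs] at hmin
    refine (Ideal.height_le_card_of_mem_minimalPrimes_span_finset hmin).trans ?_
    exact_mod_cast Finset.card_le_two
  exact absurd (three_le_height_origin.trans h2) (by decide)

end Groth.Agent.Cubic.CommonZero
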