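import Groth.Agent.Cubic.Basic
import Mathlib.LinearAlgebra.Matrix.ToLin

/-!
Eckardt points of cubic surfaces and their involutions.
-/

namespace Groth.Agent.Cubic.Eckardt

open MvPolynomial Groth.Agent.Cubic.Basic

variable {K : Type*} [Field K] [CharZero K]



/-- The point lies on three distinct lines of the surface. -/
def IsEck (f : MvPolynomial (Fin 4) K) (e : (Fin 4 → K)) : Prop :=
  ∃ U : Fin 3 → Submodule K (Fin 4 → K), Function.Injective U ∧
    ∀ i : Fin 3, Module.finrank K ↥(U i) = 2 ∧ e ∈ U i ∧ ∀ u ∈ U i, eval u f = 0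

theorem mixed {σ : Type*} [Fintype σ] {f : MvPolynomial σ K} (hf : f.IsHomogeneous 3)
    (u v : σ → K) : B (dd u f) v u = 2 * B f u v := by
  rw [B_symm_deg_two (isHomogeneous_dd u hf)]
  simp only [B]
  rw [dd_comm]
  simpa using euler (isHomogeneous_dd v hf) u

theorem finrank_ker_eq_three (l : (Fin 4 → K) →ₗ[K] K) (hl : l ≠ 0) :
    Module.finrank K ↥(LinearMap.ker l) = 3 := by
  have h1 := LinearMap.finrank_range_add_finrank_ker l
  have h2 : LinearMap.range l = ⊤ := LinearMap.range_eq_top.mpr (LinearMap.surjective hl)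
  rw [h2, finrank_top, Module.finrank_self, Module.finrank_fin_fun] at h1
  omega

theorem quad_split {g : MvPolynomial (Fin 4) K} (hg : g.IsHomogeneous 2) (l : (Fin 4 → K) →ₗ[K] K)
    (hl : l ≠ 0) (h : ∀ x, l x = 0 → eval x g = 0) :
    ∃ m : (Fin 4 → K) →ₗ[K] K, ∀ x, eval x g = l x * m x := by
  obtain ⟨u0, hu0⟩ := LinearMap.surjective hl 1
  refine ⟨(Bₗ g u0).comp (LinearMap.id - l.smulRight u0) + eval u0 g • l, fun x => ?_⟩
  have hh : l (x - l x • u0) = 0 := by simp [hu0]
  have key := eval_line_deg_two hg (x - l x • u0) u0 (l x)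
  rw [sub_add_cancel, h _ hh, B_symm_deg_two hg] at key
  rw [key]
  simp
  ring

/-- Tangent plane data at an Eckardt point. -/
structure Data (f : MvPolynomial (Fin 4) K) (e : (Fin 4 → K)) (m : (Fin 4 → K) →ₗ[K] K) : Prop where
  hom : f.IsHomogeneous 3
  ne_zero : e ≠ 0
  fe : eval e f = 0
  le : B f e e = 0
  ne : ∃ w, B f e w ≠ 0
  q : ∀ x, B f x e = B f e x * m x
  me : m e = 2

theorem IsEck.eval_eq_zero {f : MvPolynomial (Fin 4) K} {e : (Fin 4 → K)} (hE : IsEck f e) :
    eval e f = 0 := by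
  obtain ⟨U, -, hU⟩ := hE
  exact (hU 0).2.2 e (hU 0).2.1

theorem exists_data {f : MvPolynomial (Fin 4) K} (hf : f.IsHomogeneous 3)
    (hsm : ∀ v : (Fin 4 → K), v ≠ 0 → eval v f = 0 → ∃ i : Fin 4, eval v (pderiv i f) ≠ 0)
    {e : (Fin 4 → K)} (he : e ≠ 0) (hE : IsEck f e) :
    ∃ m : (Fin 4 → K) →ₗ[K] K, Data f e m := by
  have hfe := hE.eval_eq_zero
  obtain ⟨U, hinj, hU⟩ := hE
  have hne := exists_B_ne_of_pderiv_ne (hsm e he hfe)
  have hle : B f e e = 0 := by rw [B_self hf, hfe, mul_zero]
  set l := Bₗ f e with hldef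
  have hl0 : l ≠ 0 := by
    obtain ⟨w, hw⟩ := hne
    intro hc
    exact hw (by simpa [hldef] using LinearMap.congr_fun hc w)
  -- the three lines
  have key : ∀ i, ∀ x ∈ U i, B f e x = 0 ∧ B f x e = 0 := fun i x hx => by
    have h0 := (hU i).2.2 x hx
    have h1 := (hU i).2.2 _ ((U i).add_mem hx ((U i).smul_mem (1 : K) (hU i).2.1))
    have h2 := (hU i).2.2 _ ((U i).add_mem hx ((U i).smul_mem (-1 : K) (hU i).2.1))
    rw [eval_line hf, h0, hfe] at h1 h2
    exact ⟨by linear_combination (h1 + h2) / 2, by linear_combination (h1 - h2) / 2⟩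
  have hnot : ∀ i, ∃ u ∈ U i, u ∉ Submodule.span K {e} := fun i => by
    by_contra hc
    push Not at hc
    have := Submodule.finrank_mono (s := U i) (t := Submodule.span K {e}) hc
    rw [(hU i).1, finrank_span_singleton he] at this
    omega
  choose u hu hu' using hnot
  have hspan : ∀ i, Submodule.span K ({e, u i} : Set (Fin 4 → K)) = U i := fun i => by
    refine Submodule.eq_of_le_of_finrank_le (Submodule.span_le.mpr ?_) ?_
    · intro x hx
      rcases hx with rfl | rfl
      · exact (hU i).2.1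
      · exact hu i
    · rw [(hU i).1]
      have hli : LinearIndependent K ![e, u i] :=
        (LinearIndependent.pair_iff' he).mpr fun a ha =>
          hu' i (Submodule.mem_span_singleton.mpr ⟨a, ha⟩)
      have h2 := finrank_span_eq_card hli
      have e2 : Set.range ![e, u i] = {e, u i} := Matrix.range_cons_cons_empty _ _ _
      rw [e2, Fintype.card_fin] at h2
      omega
  have hmem : ∀ i j, u i ∈ U j → i = j := fun i j h => by
    refine hinj (Submodule.eq_of_le_of_finrank_le ?_ ?_)
    · rw [← hspan i]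
      refine Submodule.span_le.mpr ?_
      intro x hx
      rcases hx with rfl | rfl
      · exact (hU j).2.1
      · exact h
    · rw [(hU i).1, (hU j).1]
  have hli3 : LinearIndependent K ![e, u 0, u 1] := by
    rw [Fintype.linearIndependent_iff]
    intro g hg
    simp [Fin.sum_univ_three] at hg
    have g2 : g 2 = 0 := by
      by_contra hc
      have : u 1 = (-(g 2)⁻¹ * g 0) • e + (-(g 2)⁻¹ * g 1) • u 0 := by
        have h' := congrArg (fun z => (g 2)⁻¹ • z) hg
        simp only [smul_add, smul_zero, smul_smul, inv_mul_cancel₀ hc, one_smul] at h'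
        linear_combination (norm := module) h'
      have h10 : (1 : Fin 3) = 0 := hmem 1 0 (by
        rw [this]
        exact (U 0).add_mem ((U 0).smul_mem _ (hU 0).2.1) ((U 0).smul_mem _ (hu 0)))
      simp at h10
    simp only [g2, zero_smul, add_zero] at hg
    have hp := LinearIndependent.pair_iff.mp ((LinearIndependent.pair_iff' he).mpr fun a ha =>
      hu' 0 (Submodule.mem_span_singleton.mpr ⟨a, ha⟩)) (g 0) (g 1) hg
    intro i
    fin_cases i
    · exact hp.1
    · exact hp.2
    · exact g2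
  have hH : Submodule.span K (Set.range ![e, u 0, u 1]) = LinearMap.ker l := by
    refine Submodule.eq_of_le_of_finrank_le (Submodule.span_le.mpr ?_) ?_
    · rintro x ⟨i, rfl⟩
      fin_cases i
      · simpa [hldef] using hle
      · simpa [hldef] using (key 0 _ (hu 0)).1
      · simpa [hldef] using (key 1 _ (hu 1)).1
    · rw [finrank_span_eq_card hli3, finrank_ker_eq_three l hl0]
      simp
  have g2h := isHomogeneous_dd e hf
  have hmix : ∀ x, B (dd e f) x e = 2 * B f e x := mixed hf e
  have hform : ∀ a b c : K, B f (a • e + b • u 0 + c • u 1) e =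
      b * c * B (dd e f) (u 0) (u 1) := by
    intro a b c
    have hzero : B f e (b • u 0 + c • u 1) = 0 := by
      rw [B_add_right, B_smul_right, B_smul_right, (key 0 _ (hu 0)).1, (key 1 _ (hu 1)).1]
      ring
    have hin : b • u 0 ∈ U 0 := (U 0).smul_mem _ (hu 0)
    rw [show a • e + b • u 0 + c • u 1 = (b • u 0 + c • u 1) + a • e by abel,
      B_line_left hf, hle, hmix, hzero, B_line_left hf, (key 1 _ (hu 1)).2,
      (key 0 _ hin).2]
    have e1 : B (dd (u 1) f) (b • u 0) e = B (dd e f) (b • u 0) (u 1) := by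
      simp only [B]; rw [dd_comm]
    rw [e1, B_symm_deg_two g2h (b • u 0), B_smul_right, B_symm_deg_two g2h (u 1)]
    ring
  obtain ⟨a, b, c, habc⟩ : ∃ a b c : K, a • e + b • u 0 + c • u 1 = u 2 := by
    have : u 2 ∈ Submodule.span K (Set.range ![e, u 0, u 1]) := by
      rw [hH]; simpa [hldef] using (key 2 _ (hu 2)).1
    obtain ⟨g, hg⟩ := (Submodule.mem_span_range_iff_exists_fun K).mp this
    exact ⟨g 0, g 1, g 2, by rw [← hg]; simp [Fin.sum_univ_three]⟩
  have hb : b ≠ 0 := fun hb => absurd (hmem 2 1 (by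
    rw [← habc, hb, zero_smul, add_zero]
    exact (U 1).add_mem ((U 1).smul_mem _ (hU 1).2.1) ((U 1).smul_mem _ (hu 1)))) (by decide)
  have hc : c ≠ 0 := fun hc => absurd (hmem 2 0 (by
    rw [← habc, hc, zero_smul, add_zero]
    exact (U 0).add_mem ((U 0).smul_mem _ (hU 0).2.1) ((U 0).smul_mem _ (hu 0)))) (by decide)
  have hM : B (dd e f) (u 0) (u 1) = 0 := by
    have := hform a b c
    rw [habc, (key 2 _ (hu 2)).2] at this
    simpa [hb, hc] using this.symm
  have hq0 : ∀ x, l x = 0 → eval x (dd e f) = 0 := by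
    intro x hx
    have : x ∈ Submodule.span K (Set.range ![e, u 0, u 1]) := by rw [hH]; exact hx
    obtain ⟨g, hg⟩ := (Submodule.mem_span_range_iff_exists_fun K).mp this
    rw [← hg]
    have := hform (g 0) (g 1) (g 2)
    rw [hM, mul_zero] at this
    simpa [Fin.sum_univ_three, B] using this
  obtain ⟨m, hm⟩ := quad_split g2h l hl0 hq0
  refine ⟨m, hf, he, hfe, hle, hne, fun x => hm x, ?_⟩
  obtain ⟨u0, hu0⟩ := LinearMap.surjective hl0 1
  have h1 : B f (u0 + (1 : K) • e) e = l (u0 + (1 : K) • e) * m (u0 + (1 : K) • e) := hm _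
  rw [B_line_left hf, hle, hmix, show B f u0 e = l u0 * m u0 from hm u0,
    show B f e u0 = l u0 from rfl, hu0, map_add, map_smul, hu0,
    show l e = 0 from hle, map_add, map_smul] at h1
  simp at h1
  linear_combination -h1

/-- The involution `x ↦ x - m x • e`. -/
noncomputable def invol (e : (Fin 4 → K)) (m : (Fin 4 → K) →ₗ[K] K) : Matrix (Fin 4) (Fin 4) K :=
  LinearMap.toMatrix' (LinearMap.id - m.smulRight e)

omit [CharZero K] in
theorem invol_mulVec (e : (Fin 4 → K)) (m : (Fin 4 → K) →ₗ[K] K) (x : (Fin 4 → K)) :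
    (invol e m).mulVec x = x - m x • e := by
  rw [invol, LinearMap.toMatrix'_mulVec]
  simp

variable {f : MvPolynomial (Fin 4) K} {e : (Fin 4 → K)} {m : (Fin 4 → K) →ₗ[K] K}

theorem Data.invol_e (h : Data f e m) : (invol e m).mulVec e = -e := by
  rw [invol_mulVec, h.me]
  module

theorem Data.invol_sq (h : Data f e m) : invol e m * invol e m = 1 := by
  refine Matrix.toLin'.injective (LinearMap.ext fun x => ?_)
  rw [Matrix.toLin'_apply, Matrix.toLin'_apply, ← Matrix.mulVec_mulVec, Matrix.one_mulVec,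
    invol_mulVec, invol_mulVec, map_sub, map_smul, h.me, smul_eq_mul]
  module

theorem Data.finrank_fixed (h : Data f e m) :
    Module.finrank K ↥(LinearMap.ker (Matrix.toLin' (invol e m) - LinearMap.id)) = 3 := by
  have : LinearMap.ker (Matrix.toLin' (invol e m) - LinearMap.id) = LinearMap.ker m := by
    ext x
    simp [invol_mulVec, h.ne_zero]
  rw [this]
  refine finrank_ker_eq_three m fun hc => ?_
  have := h.me
  rw [hc] at this
  simp at this

theorem Data.eval_invol (h : Data f e m) (x : (Fin 4 → K)) :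
    eval ((invol e m).mulVec x) f = eval x f := by
  rw [invol_mulVec, sub_eq_add_neg, ← neg_smul, eval_line h.hom, h.q, h.fe]
  ring

/-- Decomposition along an involutory matrix with a fixed hyperplane. -/
theorem exists_decomp {A : Matrix (Fin 4) (Fin 4) K} {p : (Fin 4 → K)} (hp : p ≠ 0)
    (hP : Module.finrank K ↥(LinearMap.ker (Matrix.toLin' A - LinearMap.id)) = 3)
    (hAp : A.mulVec p = -p) (x : (Fin 4 → K)) :
    ∃ (h : (Fin 4 → K)) (t : K), A.mulVec h = h ∧ x = h + t • p := by
  set P := LinearMap.ker (Matrix.toLin' A - LinearMap.id) with hPdef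
  have hpP : p ∉ P := by
    intro hc
    have : A.mulVec p = p := by simpa [hPdef, sub_eq_zero] using hc
    rw [hAp] at this
    have : (2 : K) • p = 0 := by linear_combination (norm := module) -this
    simp [hp] at this
  have hlt : P < P ⊔ Submodule.span K {p} := by
    refine lt_of_le_of_ne le_sup_left fun hc => hpP ?_
    rw [hc]
    exact Submodule.mem_sup_right (Submodule.mem_span_singleton_self p)
  have htop : P ⊔ Submodule.span K {p} = ⊤ := by
    refine Submodule.eq_top_of_finrank_eq ?_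
    have h1 := Submodule.finrank_lt_finrank_of_lt hlt
    have h2 := Submodule.finrank_le (P ⊔ Submodule.span K {p})
    rw [Module.finrank_fin_fun] at h2 ⊢
    omega
  obtain ⟨h, hh, y, hy, hxy⟩ := Submodule.mem_sup.mp (show x ∈ P ⊔ Submodule.span K {p} by simp [htop])
  obtain ⟨t, rfl⟩ := Submodule.mem_span_singleton.mp hy
  exact ⟨h, t, by simpa [hPdef, sub_eq_zero] using hh, hxy.symm⟩

/-- Key facts about a projective involution fixing a hyperplane and a point of the surface. -/
theorem invol_facts (hf : f.IsHomogeneous 3)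
    {A : Matrix (Fin 4) (Fin 4) K} {p : (Fin 4 → K)} (hp : p ≠ 0) (hfp : eval p f = 0)
    (hne : ∃ w, B f p w ≠ 0)
    (hP : Module.finrank K ↥(LinearMap.ker (Matrix.toLin' A - LinearMap.id)) = 3)
    (hAp : A.mulVec p = -p) {c : K}
    (hc : ∀ x, eval (A.mulVec x) f = c * eval x f) :
    (∀ h, A.mulVec h = h → B f h p = 0) ∧ ∃ h, A.mulVec h = h ∧ B f p h ≠ 0 := by
  obtain ⟨w, hw⟩ := hne
  obtain ⟨h1, t1, hh1, hw1⟩ := exists_decomp hp hP hAp w
  have hh1' : B f p h1 ≠ 0 := by
    intro hz
    apply hw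
    rw [hw1, B_add_right, B_smul_right, B_self hf, hfp, hz]
    ring
  have hrel : ∀ h, A.mulVec h = h →
      B f p h * (1 - c) = 0 ∧ B f h p * (1 + c) = 0 := by
    intro h hh
    have e0 := hc h
    rw [hh] at e0
    have e1 := hc (h + (1 : K) • p)
    have e2 := hc (h + (-1 : K) • p)
    rw [Matrix.mulVec_add, Matrix.mulVec_smul, hh, hAp, smul_neg, ← neg_smul,
      eval_line hf, eval_line hf, hfp] at e1 e2
    exact ⟨by linear_combination (e1 + e2) / 2 - e0, by linear_combination -(e1 - e2) / 2⟩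
  have hc1 : c = 1 := by
    have := (hrel h1 hh1).1
    simp [hh1', sub_eq_zero] at this
    exact this.symm
  refine ⟨fun h hh => ?_, h1, hh1, hh1'⟩
  have := (hrel h hh).2
  rw [hc1] at this
  linear_combination this / 2

theorem Data.unique (h : Data f e m) {A : Matrix (Fin 4) (Fin 4) K}
    (hP : Module.finrank K ↥(LinearMap.ker (Matrix.toLin' A - LinearMap.id)) = 3)
    (hAp : A.mulVec e = -e) {c : K}
    (hc : ∀ x, eval (A.mulVec x) f = c * eval x f) : A = invol e m := by
  obtain ⟨hq, h1, hh1, hl1⟩ := invol_facts h.hom h.ne_zero h.fe h.ne hP hAp hc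
  have hm1 : m h1 = 0 := by
    have := hq h1 hh1
    rw [h.q] at this
    simpa [hl1] using this
  have hm : ∀ x, A.mulVec x = x → m x = 0 := fun x hx => by
    have h0 := hq x hx
    rw [h.q] at h0
    rcases eq_or_ne (B f e x) 0 with hz | hz
    · have hxA : A.mulVec (x + h1) = x + h1 := by rw [Matrix.mulVec_add, hx, hh1]
      have := hq _ hxA
      rw [h.q, B_add_right, hz, zero_add, map_add, hm1, add_zero] at this
      simpa [hl1] using this
    · simpa [hz] using h0
  refine Matrix.toLin'.injective (LinearMap.ext fun x => ?_)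
  obtain ⟨y, t, hy, rfl⟩ := exists_decomp h.ne_zero hP hAp x
  rw [Matrix.toLin'_apply, Matrix.toLin'_apply, invol_mulVec, Matrix.mulVec_add,
    Matrix.mulVec_smul, hy, hAp, map_add, map_smul, hm y hy, h.me, smul_eq_mul]
  module

theorem isEck_map {A : Matrix (Fin 4) (Fin 4) K} {p : (Fin 4 → K)} (hA : A * A = 1)
    (hc : ∀ x, eval (A.mulVec x) f = eval x f) (hE : IsEck f p) : IsEck f (A.mulVec p) := by
  obtain ⟨U, hinj, hU⟩ := hE
  have hinjA : Function.Injective (Matrix.toLin' A) := fun a b hab => by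
    have := congrArg A.mulVec hab
    simpa [Matrix.toLin'_apply, Matrix.mulVec_mulVec, hA] using this
  refine ⟨fun i => (U i).map (Matrix.toLin' A),
    fun i j hij => hinj (Submodule.map_injective_of_injective hinjA hij), fun i => ?_⟩
  refine ⟨?_, ?_, ?_⟩
  · rw [← (Submodule.equivMapOfInjective _ hinjA (U i)).finrank_eq, (hU i).1]
  · exact ⟨p, (hU i).2.1, Matrix.toLin'_apply A p⟩
  · rintro _ ⟨u, hu, rfl⟩
    rw [Matrix.toLin'_apply, hc, (hU i).2.2 u hu]

end Groth.Agent.Cubic.Eckardt
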