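import Groth.Agent.Cubic.Plane

/-!
The Hesse normal form of a smooth plane cubic and the flexes of the Hesse cubics.
-/

namespace Groth.Agent.Cubic.Hesse

open MvPolynomial Matrix Groth.Agent.Cubic.Basic Groth.Agent.Cubic.Plane

variable {f : MvPolynomial (Fin 3) ℂ}

theorem exists_omega : ∃ ω : ℂ, ω ^ 2 + ω + 1 = 0 := by
  let g : Polynomial ℂ := Polynomial.C 1 * Polynomial.X ^ 2 + Polynomial.C 1 * Polynomial.X + Polynomial.C 1
  have hd : g.degree = 2 := Polynomial.degree_quadratic one_ne_zero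
  obtain ⟨ω, hω⟩ := IsAlgClosed.exists_root g (by rw [hd]; decide)
  exact ⟨ω, by simpa [g] using hω⟩

theorem surjective_mulVec {A : Matrix (Fin 3) (Fin 3) ℂ} (hA : IsUnit A.det) (w : Fin 3 → ℂ) :
    ∃ w', A.mulVec w' = w :=
  ⟨A⁻¹.mulVec w, by rw [Matrix.mulVec_mulVec, Matrix.mul_nonsing_inv A hA, Matrix.one_mulVec]⟩

theorem mulVec_ne_zero {A : Matrix (Fin 3) (Fin 3) ℂ} (hA : IsUnit A.det) {v : Fin 3 → ℂ}
    (hv : v ≠ 0) : A.mulVec v ≠ 0 := fun h => hv <| by
  have := congrArg A⁻¹.mulVec h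
  rwa [Matrix.mulVec_mulVec, Matrix.nonsing_inv_mul A hA, Matrix.one_mulVec, Matrix.mulVec_zero] at this

theorem not_singular_pull (hf : f.IsHomogeneous 3) (hsm : Smooth f)
    {A : Matrix (Fin 3) (Fin 3) ℂ} (hA : IsUnit A.det) {G : (Fin 3 → ℂ) → ℂ} {κ : ℂ}
    (hG : ∀ v, eval (A.mulVec v) f = κ * G v) {v : Fin 3 → ℂ} (hv : v ≠ 0) (hGv : G v = 0)
    (hs : ∀ w, G (v + w) - G (v - w) = 2 * G w) : False := by
  refine not_singular hf hsm (mulVec_ne_zero hA hv) (by rw [hG, hGv, mul_zero]) fun w => ?_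
  obtain ⟨w', rfl⟩ := surjective_mulVec hA w
  rw [← Matrix.mulVec_add, ← Matrix.mulVec_sub, hG, hG, hG]
  linear_combination κ * hs w'

/-- Weierstrass to three inflexional tangents. -/
theorem exists_hesse (hf : f.IsHomogeneous 3) (hsm : Smooth f) :
    ∃ (A : Matrix (Fin 3) (Fin 3) ℂ) (k c : ℂ), IsUnit A.det ∧ k ^ 3 ≠ 1 ∧ c ≠ 0 ∧
      ∀ v, eval (A.mulVec v) f = c * eval v (HesseCubic.form k) := by
  obtain ⟨A, κ, p, q, hA, hκ, hW⟩ := exists_weierstrass hf hsm
  obtain ⟨s, hs0, hs⟩ : ∃ s : ℂ, s ≠ 0 ∧ s ^ 8 / 27 + 2 * p / 3 * s ^ 4 + 4 * q * s ^ 2 - p ^ 2 = 0 := by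
    rcases eq_or_ne p 0 with rfl | hp
    · obtain ⟨s, hs⟩ := IsAlgClosed.exists_pow_nat_eq (-108 * q) (n := 6) (by norm_num)
      refine ⟨s, fun h => ?_, by linear_combination s ^ 2 / 27 * hs⟩
      have hq : q = 0 := by simpa [h] using hs.symm
      refine not_singular_pull hf hsm hA hW (v := ![0, 0, 1]) ?_ (by simp [hq]) fun w => ?_
      · intro h'; simpa using congrFun h' 2
      · simp [hq]; ring
    · let g : Polynomial ℂ := Polynomial.C (1 / 27) * Polynomial.X ^ 8 +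
        Polynomial.C (2 * p / 3) * Polynomial.X ^ 4 + Polynomial.C (4 * q) * Polynomial.X ^ 2 -
          Polynomial.C (p ^ 2)
      have hd : g.degree ≠ 0 := by
        have h1 : g.natDegree = 8 := by
          simp only [g]
          compute_degree!
        intro h0
        have h2 : g.natDegree = 0 := Polynomial.natDegree_eq_of_degree_eq_some h0
        omega
      obtain ⟨s, hs⟩ := IsAlgClosed.exists_root g hd
      simp [g] at hs
      refine ⟨s, fun h => hp ?_, by linear_combination hs⟩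
      subst h
      simpa using hs
  set x₀ := s ^ 2 / 3 with hx₀
  set y₀ := (p + s ^ 4 / 3) / (2 * s) with hy₀
  have hq : q = ((p - s ^ 4 / 3) / (2 * s)) ^ 2 - s ^ 6 / 27 := by
    have e : ((p - s ^ 4 / 3) / (2 * s)) ^ 2 * (4 * s ^ 2) = (p - s ^ 4 / 3) ^ 2 := by
      field_simp
      ring
    refine mul_right_cancel₀ (mul_ne_zero (by norm_num : (4 : ℂ) ≠ 0) (pow_ne_zero 2 hs0)) ?_
    rw [sub_mul, e]
    linear_combination hs
  have hy : y₀ ≠ 0 := by
    intro h
    have hp : p = -(s ^ 4 / 3) := by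
      rw [hy₀] at h
      field_simp at h
      linear_combination h / 3
    refine not_singular_pull hf hsm hA hW (v := ![x₀, 0, 1]) ?_ ?_ fun w => ?_
    · intro h'; simpa using congrFun h' 2
    · simp [hq, hp, hx₀]; field_simp; ring
    · simp [hq, hp, hx₀]; field_simp; ring
  obtain ⟨ω, hω⟩ := exists_omega
  have hω1 : ω ≠ 1 := fun h => by rw [h] at hω; norm_num at hω
  set m := y₀ - s * x₀ with hm
  set α := -(y₀ / s) with hα
  set β := -(1 / (2 * s)) with hβ
  set γ := 1 / (2 * s) with hγ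
  have hα0 : α ≠ 0 := neg_ne_zero.mpr (div_ne_zero hy hs0)
  have hβ0 : β ≠ 0 := neg_ne_zero.mpr (one_div_ne_zero (mul_ne_zero two_ne_zero hs0))
  have hγ0 : γ ≠ 0 := one_div_ne_zero (mul_ne_zero two_ne_zero hs0)
  -- the coordinate change
  let col : ℂ → ℂ → ℂ → (Fin 3 → ℂ) := fun U V W => ![((W - V) / 2 - m * U) / s, (V + W) / 2, U]
  let M : Matrix (Fin 3) (Fin 3) ℂ :=
    cols (col (1 / α) (1 / β) (1 / γ)) (col (1 / α) (ω / β) (ω ^ 2 / γ)) (col (1 / α) (ω ^ 2 / β) (ω / γ))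
  have hM : ∀ v : Fin 3 → ℂ, M.mulVec v = col ((v 0 + v 1 + v 2) / α)
      ((v 0 + ω * v 1 + ω ^ 2 * v 2) / β) ((v 0 + ω ^ 2 * v 1 + ω * v 2) / γ) := by
    intro v
    simp only [M, col, cols_mulVec]
    ext i
    fin_cases i <;> simp <;> ring
  set c := 1 / (α * β * γ) with hc
  have hc0 : c ≠ 0 := one_div_ne_zero (mul_ne_zero (mul_ne_zero hα0 hβ0) hγ0)
  have hMdet : IsUnit M.det := by
    refine isUnit_det_cols fun x y z hz => ?_
    have h := hM ![x, y, z]
    simp only [M, cols_mulVec] at h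
    have h' : col ((x + y + z) / α) ((x + ω * y + ω ^ 2 * z) / β) ((x + ω ^ 2 * y + ω * z) / γ) = 0 := by
      rw [← hz]
      exact h.symm
    have a2 : (x + y + z) / α = 0 := congrFun h' 2
    have a1 : ((x + ω * y + ω ^ 2 * z) / β + (x + ω ^ 2 * y + ω * z) / γ) / 2 = 0 := congrFun h' 1
    have a0 : (((x + ω ^ 2 * y + ω * z) / γ - (x + ω * y + ω ^ 2 * z) / β) / 2 -
        m * ((x + y + z) / α)) / s = 0 := congrFun h' 0
    have b0 : x + y + z = 0 := by simpa [hα0] using a2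
    rw [a2, mul_zero, sub_zero] at a0
    have a0' : ((x + ω ^ 2 * y + ω * z) / γ - (x + ω * y + ω ^ 2 * z) / β) / 2 = 0 := by
      simpa [hs0] using a0
    have bV : (x + ω * y + ω ^ 2 * z) / β = 0 := by linear_combination a1 - a0'
    have bW : (x + ω ^ 2 * y + ω * z) / γ = 0 := by linear_combination a1 + a0'
    have b1 : x + ω * y + ω ^ 2 * z = 0 := by simpa [hβ0] using bV
    have b2 : x + ω ^ 2 * y + ω * z = 0 := by simpa [hγ0] using bW
    have hx : x = 0 := by linear_combination (b0 + b1 + b2) / 3 - (y + z) / 3 * hω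
    have hy' : y = 0 := by
      linear_combination (b0 + ω ^ 2 * b1 + ω * b2) / 3 -
        (x + (2 * (ω - 1)) * y + (ω ^ 2 - ω + 1) * z) / 3 * hω
    exact ⟨hx, hy', by linear_combination b0 - hx - hy'⟩
  have hG : ∀ v, eval ((A * M).mulVec v) f =
      κ * (c * (v 0 ^ 3 + v 1 ^ 3 + v 2 ^ 3 - 3 * (v 0 * v 1 * v 2)) - 27 * v 0 ^ 3) := by
    intro v
    rw [← Matrix.mulVec_mulVec, hW, hM]
    congr 1
    simp only [col, Matrix.cons_val_zero, Matrix.cons_val_one, Matrix.cons_val]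
    set U := (v 0 + v 1 + v 2) / α with hU
    set V := (v 0 + ω * v 1 + ω ^ 2 * v 2) / β with hV
    set W := (v 0 + ω ^ 2 * v 1 + ω * v 2) / γ with hWd
    have key : ((V + W) / 2) ^ 2 * U - (((W - V) / 2 - m * U) / s) ^ 3 -
        p * (((W - V) / 2 - m * U) / s) * U ^ 2 - q * U ^ 3 =
        U * V * W - (α * U + β * V + γ * W) ^ 3 := by
      rw [hq, hα, hβ, hγ, hm, hx₀, hy₀]
      field_simp
      ring
    rw [key]
    have e1 : α * U + β * V + γ * W = 3 * v 0 := by
      rw [hU, hV, hWd, mul_div_cancel₀ _ hα0, mul_div_cancel₀ _ hβ0, mul_div_cancel₀ _ hγ0]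
      linear_combination (v 1 + v 2) * hω
    have e2 : U * V * W = c * (v 0 ^ 3 + v 1 ^ 3 + v 2 ^ 3 - 3 * (v 0 * v 1 * v 2)) := by
      rw [hU, hV, hWd, hc, div_mul_div_comm, div_mul_div_comm, div_eq_mul_inv, one_div,
        mul_comm (α * β * γ)⁻¹]
      congr 1
      have hω3 : ω ^ 3 = 1 := by linear_combination (ω - 1) * hω
      linear_combination (v 0 ^ 2 * v 1 + v 0 ^ 2 * v 2 + v 0 * v 1 ^ 2 + v 0 * v 2 ^ 2 +
        3 * (v 0 * v 1 * v 2) + v 1 ^ 2 * v 2 + v 1 * v 2 ^ 2) * hω +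
        (v 1 ^ 3 + v 2 ^ 3 + v 0 * v 1 ^ 2 + v 0 * v 2 ^ 2 + ω * (v 0 * v 1 * v 2) +
          ω * (v 1 ^ 2 * v 2) + ω * (v 1 * v 2 ^ 2) + v 1 ^ 2 * v 2 + v 1 * v 2 ^ 2) * hω3
    rw [e1, e2]
    ring
  have hAM : IsUnit (A * M).det := by rw [Matrix.det_mul]; exact hA.mul hMdet
  have hc27 : c - 27 ≠ 0 := by
    intro h
    have h27 : c = 27 := sub_eq_zero.mp h
    refine not_singular_pull hf hsm hAM hG (v := ![1, 0, 0]) ?_ (by simp [h27]) fun w => ?_
    · intro h'; simpa using congrFun h' 0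
    · simp [h27]; ring
  obtain ⟨μ, hμ⟩ := IsAlgClosed.exists_pow_nat_eq (c / (c - 27)) (n := 3) (by norm_num)
  have hμ' : (c - 27) * μ ^ 3 = c := by rw [hμ]; field_simp
  have hμ0 : μ ≠ 0 := fun h => hc0 (by simpa [h] using hμ'.symm)
  refine ⟨A * M * Matrix.diagonal ![μ, 1, 1], μ, κ * c, ?_, ?_, mul_ne_zero hκ hc0, fun v => ?_⟩
  · rw [Matrix.det_mul, Matrix.det_diagonal]
    refine hAM.mul (isUnit_iff_ne_zero.mpr ?_)
    simp [Fin.prod_univ_three, hμ0]
  · intro h
    rw [h, mul_one] at hμ'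
    norm_num at hμ'
  · rw [← Matrix.mulVec_mulVec, hG, eval_form]
    simp [Matrix.mulVec_diagonal]
    linear_combination κ * v 0 ^ 3 * hμ'

theorem flex_map {g : MvPolynomial (Fin 3) ℂ} {A : Matrix (Fin 3) (Fin 3) ℂ} {c : ℂ}
    (hA : IsUnit A.det) (hc : c ≠ 0) (hfg : ∀ v, eval (A.mulVec v) f = c * eval v g)
    (v : Fin 3 → ℂ) : IsFlex f (A.mulVec v) ↔ IsFlex g v := by
  have hinj : Function.Injective (Matrix.toLin' A) := fun a b hab => by
    have := congrArg A⁻¹.mulVec hab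
    simpa [Matrix.mulVec_mulVec, Matrix.nonsing_inv_mul A hA] using this
  constructor
  · rintro ⟨w, hind, hw⟩
    obtain ⟨w', rfl⟩ := surjective_mulVec hA w
    refine ⟨w', ?_, fun t => mul_left_cancel₀ hc ?_⟩
    · refine LinearIndependent.of_comp (Matrix.toLin' A) ?_
      have e : Matrix.toLin' A ∘ ![v, w'] = ![A.mulVec v, A.mulVec w'] := by
        ext i : 1
        fin_cases i <;> simp [Matrix.toLin'_apply]
      rw [e]
      exact hind
    · rw [← hfg, Matrix.mulVec_add, Matrix.mulVec_smul, hw t, hfg]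
      ring
  · rintro ⟨w, hind, hw⟩
    refine ⟨A.mulVec w, ?_, fun t => ?_⟩
    · have h := hind.map' _ (LinearMap.ker_eq_bot.mpr hinj)
      have e : Matrix.toLin' A ∘ ![v, w] = ![A.mulVec v, A.mulVec w] := by
        ext i : 1
        fin_cases i <;> simp [Matrix.toLin'_apply]
      rw [e] at h
      exact h
    · rw [← Matrix.mulVec_smul, ← Matrix.mulVec_add, hfg, hfg, hw t]
      ring

/-- The three kinds of flexes. -/
def nine (γ : ℂ) : Fin 3 → (Fin 3 → ℂ) := ![![0, 1, -γ], ![-γ, 0, 1], ![1, -γ, 0]]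

theorem nine_ne_zero (γ : ℂ) (i : Fin 3) : nine γ i ≠ 0 := by
  intro h
  fin_cases i
  · simpa [nine] using congrFun h 1
  · simpa [nine] using congrFun h 2
  · simpa [nine] using congrFun h 0

theorem nine_eval {k γ : ℂ} (hγ : γ ^ 3 = 1) (i : Fin 3) :
    eval (nine γ i) (HesseCubic.form k) = 0 := by
  fin_cases i <;> simp [nine, eval_form] <;> linear_combination -hγ

theorem nine_flex {k γ : ℂ} (hγ : γ ^ 3 = 1) (i : Fin 3) :
    IsFlex (HesseCubic.form k) (nine γ i) := by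
  refine ⟨![![1, 0, -(k * γ ^ 2)], ![-(k * γ ^ 2), 1, 0], ![0, -(k * γ ^ 2), 1]] i, ?_, fun t => ?_⟩
  · refine (LinearIndependent.pair_iff' (nine_ne_zero γ i)).mpr fun a ha => ?_
    fin_cases i
    · simpa [nine] using congrFun ha 0
    · simpa [nine] using congrFun ha 1
    · simpa [nine] using congrFun ha 2
  · fin_cases i <;>
    · simp [nine, eval_form]
      linear_combination (-1 - 3 * k ^ 2 * γ ^ 2 * t ^ 2 - 3 * k * γ * t) * hγ

theorem flex_classify {k : ℂ} (hk : k ^ 3 ≠ 1) {v : Fin 3 → ℂ} (hv : v ≠ 0)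
    (hfv : eval v (HesseCubic.form k) = 0) (h : IsFlex (HesseCubic.form k) v) :
    ∃ γ c : ℂ, γ ^ 3 = 1 ∧ ∃ i, v = c • nine γ i := by
  obtain ⟨w, hind, hw⟩ := h
  rw [eval_form] at hfv
  -- the Hessian matrix, up to a factor
  let N : Matrix (Fin 3) (Fin 3) ℂ :=
    !![2 * v 0, -(k * v 2), -(k * v 1); -(k * v 2), 2 * v 1, -(k * v 0); -(k * v 1), -(k * v 0), 2 * v 2]
  have hb := flex_B (form_hom k) (v := v) (w := w) (by rw [eval_form]; exact hfv) hw
  have hN : N.det = 0 := by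
    by_contra hN
    have h1 : N.mulVec v ⬝ᵥ v = 0 := by
      simp [N, mulVec, dotProduct, Fin.sum_univ_three]
      linear_combination 2 * hfv
    have e1 : B (HesseCubic.form k) v w = 3 / 2 * (N.mulVec v ⬝ᵥ w) := by
      simp [B, eval_dd, HesseCubic.form, pderiv_mul, pderiv_X, N, mulVec, dotProduct,
        Fin.sum_univ_three]
      ring
    have e2 : B (HesseCubic.form k) w v = 3 / 2 * (N.mulVec w ⬝ᵥ w) := by
      simp [B, eval_dd, HesseCubic.form, pderiv_mul, pderiv_X, N, mulVec, dotProduct,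
        Fin.sum_univ_three]
      ring
    have e3 : N.mulVec w ⬝ᵥ v = N.mulVec v ⬝ᵥ w := by
      simp [N, mulVec, dotProduct, Fin.sum_univ_three]
      ring
    have h2 : N.mulVec v ⬝ᵥ w = 0 := by
      have := hb.1; rw [e1] at this; simpa using this
    have h3 : N.mulVec w ⬝ᵥ w = 0 := by
      have := hb.2; rw [e2] at this; simpa using this
    have h4 : N.mulVec w ⬝ᵥ v = 0 := by rw [e3, h2]
    -- both images annihilate the plane of `v` and `w`
    let L : (Fin 3 → ℂ) →ₗ[ℂ] (Fin 2 → ℂ) :=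
      { toFun := fun x => ![x ⬝ᵥ v, x ⬝ᵥ w]
        map_add' := fun x y => by ext i; fin_cases i <;> simp [add_dotProduct]
        map_smul' := fun c x => by ext i; fin_cases i <;> simp [smul_dotProduct] }
    have hsurj : Function.Surjective L := by
      rw [← LinearMap.range_eq_top]
      by_contra hne
      obtain ⟨φ, hφ0, hφ⟩ := Submodule.exists_le_ker_of_lt_top _ (lt_top_iff_ne_top.mpr hne)
      have hall : ∀ x, φ ![1, 0] • (x ⬝ᵥ v) + φ ![0, 1] • (x ⬝ᵥ w) = 0 := fun x => by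
        have hx : φ (L x) = 0 := hφ (LinearMap.mem_range_self L x)
        have e : L x = (x ⬝ᵥ v) • ![1, 0] + (x ⬝ᵥ w) • ![0, 1] := by
          ext i; fin_cases i <;> simp [L]
        rw [e, map_add, map_smul, map_smul] at hx
        simp only [smul_eq_mul] at hx ⊢
        linear_combination hx
      have hz : φ ![1, 0] • v + φ ![0, 1] • w = 0 := by
        ext i
        have := hall (Pi.single i 1)
        simpa using this
      obtain ⟨z1, z2⟩ := LinearIndependent.pair_iff.mp hind _ _ hz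
      apply hφ0
      refine LinearMap.ext fun y => ?_
      rw [show y = y 0 • ![1, 0] + y 1 • ![0, 1] by ext i; fin_cases i <;> simp]
      rw [map_add, map_smul, map_smul, z1, z2]
      simp
    have hker : Module.finrank ℂ ↥(LinearMap.ker L) = 1 := by
      have := LinearMap.finrank_range_add_finrank_ker L
      rw [LinearMap.range_eq_top.mpr hsurj, finrank_top, Module.finrank_fin_fun,
        Module.finrank_fin_fun] at this
      omega
    have hNw : N.mulVec w ∈ LinearMap.ker L := by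
      ext i; fin_cases i <;> simp [L, h3, h4]
    have hNv : N.mulVec v ∈ LinearMap.ker L := by
      ext i; fin_cases i <;> simp [L, h1, h2]
    have hinj : ∀ x, N.mulVec x = 0 → x = 0 := fun x hx => by
      by_contra hx0
      exact hN (Matrix.exists_mulVec_eq_zero_iff.mp ⟨x, hx0, hx⟩)
    have hv0 : (⟨N.mulVec v, hNv⟩ : LinearMap.ker L) ≠ 0 := fun h =>
      hv (hinj v (congrArg Subtype.val h))
    obtain ⟨a, ha⟩ := exists_smul_eq_of_finrank_eq_one hker hv0 ⟨N.mulVec w, hNw⟩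
    have ha' : N.mulVec (w - a • v) = 0 := by
      rw [Matrix.mulVec_sub, Matrix.mulVec_smul, sub_eq_zero]
      exact (congrArg Subtype.val ha).symm
    exact (LinearIndependent.pair_iff' hv).mp hind a (sub_eq_zero.mp (hinj _ ha')).symm
  have hprod : v 0 * v 1 * v 2 = 0 := by
    rw [Matrix.det_fin_three] at hN
    simp [N] at hN
    have h8 : 8 * (1 - k ^ 3) * (v 0 * v 1 * v 2) = 0 := by linear_combination hN + 2 * k ^ 2 * hfv
    exact (mul_eq_zero.mp h8).resolve_left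
      (mul_ne_zero (by norm_num) (sub_ne_zero.mpr (Ne.symm hk)))
  have main : ∀ a b : ℂ, a ^ 3 + b ^ 3 = 0 → (a = 0 → b = 0 → False) →
      a ≠ 0 ∧ ∃ γ : ℂ, γ ^ 3 = 1 ∧ b = -(γ * a) := by
    intro a b hab hne
    have ha : a ≠ 0 := fun h => hne h (by simpa [h] using hab)
    refine ⟨ha, -(b / a), ?_, by field_simp⟩
    field_simp
    linear_combination -hab
  rcases mul_eq_zero.mp hprod with h01 | h2
  · rcases mul_eq_zero.mp h01 with h0 | h1
    · obtain ⟨-, γ, hγ, hb⟩ := main (v 1) (v 2) (by rw [h0] at hfv; linear_combination hfv)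
        (fun a b => hv (funext fun i => by fin_cases i <;> simp [h0, a, b]))
      exact ⟨γ, v 1, hγ, 0, funext fun i => by fin_cases i <;> simp [nine, h0, hb] <;> ring⟩
    · obtain ⟨-, γ, hγ, hb⟩ := main (v 2) (v 0) (by rw [h1] at hfv; linear_combination hfv)
        (fun a b => hv (funext fun i => by fin_cases i <;> simp [h1, a, b]))
      exact ⟨γ, v 2, hγ, 1, funext fun i => by fin_cases i <;> simp [nine, h1, hb] <;> ring⟩
  · obtain ⟨-, γ, hγ, hb⟩ := main (v 0) (v 1) (by rw [h2] at hfv; linear_combination hfv)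
      (fun a b => hv (funext fun i => by fin_cases i <;> simp [h2, a, b]))
    exact ⟨γ, v 0, hγ, 2, funext fun i => by fin_cases i <;> simp [nine, h2, hb] <;> ring⟩

end Groth.Agent.Cubic.Hesse
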