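import Groth.Agent.Cubic.Hesse
import Mathlib.LinearAlgebra.Matrix.Determinant.Basic
import Mathlib.LinearAlgebra.Matrix.Permutation

/-!
Automorphisms of a general Hesse cubic.
-/

namespace Groth.Agent.Cubic.HesseAut

open Matrix Groth.Agent.Cubic

local notation "M3" => Matrix (Fin 3) (Fin 3) ℂ

/-- `x³ + y³ + z³ - 3kxyz`. -/
def h (k : ℂ) (v : Fin 3 → ℂ) : ℂ := v 0 ^ 3 + v 1 ^ 3 + v 2 ^ 3 - 3 * k * (v 0 * v 1 * v 2)

/-- `xyz`. -/
def p (v : Fin 3 → ℂ) : ℂ := v 0 * v 1 * v 2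

/-- Polarisation. -/
def pol (G : (Fin 3 → ℂ) → ℂ) (x u w : Fin 3 → ℂ) : ℂ :=
  G (x + u + w) - G (x + u) - G (x + w) - G (u + w) + G x + G u + G w

/-- The Hessian of `h k` up to a factor three. -/
def hessH (k : ℂ) (v : Fin 3 → ℂ) : M3 :=
  !![2 * v 0, -(k * v 2), -(k * v 1); -(k * v 2), 2 * v 1, -(k * v 0); -(k * v 1), -(k * v 0), 2 * v 2]

/-- The Hessian of `p`. -/
def hessP (v : Fin 3 → ℂ) : M3 := !![0, v 2, v 1; v 2, 0, v 0; v 1, v 0, 0]

theorem pol_h (k : ℂ) (x u w : Fin 3 → ℂ) : pol (h k) x u w = 3 * (u ⬝ᵥ hessH k x *ᵥ w) := by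
  simp [pol, h, hessH, mulVec, dotProduct, Fin.sum_univ_three]
  ring

theorem pol_p (x u w : Fin 3 → ℂ) : pol p x u w = u ⬝ᵥ hessP x *ᵥ w := by
  simp [pol, p, hessP, mulVec, dotProduct, Fin.sum_univ_three]
  ring

theorem det_hessH (k : ℂ) (v : Fin 3 → ℂ) :
    (hessH k v).det = 8 * (1 - k ^ 3) * p v - 2 * k ^ 2 * h k v := by
  simp [hessH, p, h, Matrix.det_fin_three]
  ring

theorem det_hessP (v : Fin 3 → ℂ) : (hessP v).det = 2 * p v := by
  simp [hessP, p, Matrix.det_fin_three]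
  ring

theorem congr_of_bilin (A N N' : M3) (c : ℂ)
    (hyp : ∀ u w : Fin 3 → ℂ, A *ᵥ u ⬝ᵥ N *ᵥ (A *ᵥ w) = c * (u ⬝ᵥ N' *ᵥ w)) :
    Aᵀ * N * A = c • N' := by
  ext i j
  have := hyp (Pi.single i 1) (Pi.single j 1)
  fin_cases i <;> fin_cases j <;>
    simp [mulVec, dotProduct, Fin.sum_univ_three, Matrix.mul_apply] at this ⊢ <;>
    linear_combination this

theorem hess_covariant {A : M3} {G G' : (Fin 3 → ℂ) → ℂ} {c : ℂ}
    (hG : ∀ v, G (A *ᵥ v) = c * G' v) (x u w : Fin 3 → ℂ) :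
    pol G (A *ᵥ x) (A *ᵥ u) (A *ᵥ w) = c * pol G' x u w := by
  simp only [pol, ← mulVec_add, hG]
  ring

theorem det_covariant {A N N' : M3} {c : ℂ} (hdet : A.det = 1) (h : Aᵀ * N * A = c • N') :
    N.det = c ^ 3 * N'.det := by
  have := congrArg Matrix.det h
  rw [det_mul, det_mul, det_transpose, hdet, det_smul, Fintype.card_fin] at this
  simpa using this

variable {k : ℂ}

/-- The pencil of `k` is preserved. -/
theorem pencil {A : M3} {c : ℂ} (hdet : A.det = 1) (hA : ∀ v, h k (A *ᵥ v) = c * h k v)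
    (v : Fin 3 → ℂ) :
    8 * (1 - k ^ 3) * p (A *ᵥ v) - 2 * k ^ 2 * (c * h k v) =
      c ^ 3 * (8 * (1 - k ^ 3) * p v - 2 * k ^ 2 * h k v) := by
  rw [← hA, ← det_hessH, ← det_hessH]
  refine det_covariant hdet (congr_of_bilin _ _ _ _ fun u w => ?_)
  have := hess_covariant hA v u w
  rw [pol_h, pol_h] at this
  linear_combination this / 3

theorem surjective_of_det {A : M3} (hdet : A.det = 1) (v : Fin 3 → ℂ) : ∃ w, A *ᵥ w = v :=
  Hesse.surjective_mulVec (by rw [hdet]; exact isUnit_one) v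

theorem c_ne_zero {A : M3} {c : ℂ} (hdet : A.det = 1) (hA : ∀ v, h k (A *ᵥ v) = c * h k v) :
    c ≠ 0 := by
  rintro rfl
  obtain ⟨w, hw⟩ := surjective_of_det hdet ![1, 0, 0]
  have := hA w
  rw [hw] at this
  simp [h] at this

/-- A member of the pencil containing a line is one of the singular ones. -/
theorem singular_member {A : M3} {a b : ℂ} (hdet : A.det = 1) (ha : a ≠ 0)
    (hA : ∀ v, p (A *ᵥ v) = a * (v 0 ^ 3 + v 1 ^ 3 + v 2 ^ 3) + b * p v) :
    ∃ m : ℂ, m ^ 3 = 1 ∧ b = -(3 * m * a) := by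
  obtain ⟨q, hq⟩ := surjective_of_det hdet ![0, 0, 1]
  have hs : ∀ w, p (A *ᵥ (q + w)) - p (A *ᵥ (q - w)) = 2 * p (A *ᵥ w) := by
    intro w
    rw [mulVec_add, mulVec_sub, hq]
    generalize A *ᵥ w = u
    simp [p]
    ring
  simp only [hA] at hs
  have e0 := hs ![1, 0, 0]
  have e1 := hs ![0, 1, 0]
  have e2 := hs ![0, 0, 1]
  simp [p] at e0 e1 e2
  have f0 : 3 * a * q 0 ^ 2 = -(b * (q 1 * q 2)) := by linear_combination e0 / 2
  have f1 : 3 * a * q 1 ^ 2 = -(b * (q 0 * q 2)) := by linear_combination e1 / 2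
  have f2 : 3 * a * q 2 ^ 2 = -(b * (q 0 * q 1)) := by linear_combination e2 / 2
  have h3a : 3 * a ≠ 0 := mul_ne_zero three_ne_zero ha
  have hX : q 0 * q 1 * q 2 ≠ 0 := by
    intro hX
    have z : ∀ t s : ℂ, 3 * a * t ^ 2 = -(b * s) → t * s = 0 → t = 0 := fun t s e et => by
      have : 3 * a * t ^ 3 = 0 := by linear_combination t * e - b * et
      simpa [h3a, ha] using this
    have z0 := z _ _ f0 (by linear_combination hX)
    have z1 := z _ _ f1 (by linear_combination hX)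
    have z2 := z _ _ f2 (by linear_combination hX)
    have : q = 0 := funext fun i => by fin_cases i <;> assumption
    rw [this, mulVec_zero] at hq
    simpa using congrFun hq 2
  have hb3 : (27 * a ^ 3 + b ^ 3) * (q 0 * q 1 * q 2) ^ 2 = 0 := by
    have : (3 * a * q 0 ^ 2) * (3 * a * q 1 ^ 2) * (3 * a * q 2 ^ 2) =
        -(b * (q 1 * q 2)) * -(b * (q 0 * q 2)) * -(b * (q 0 * q 1)) := by rw [f0, f1, f2]
    linear_combination this
  have hb3' : 27 * a ^ 3 + b ^ 3 = 0 := (mul_eq_zero.mp hb3).resolve_right (pow_ne_zero 2 hX)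
  refine ⟨-b / (3 * a), ?_, by field_simp⟩
  field_simp
  linear_combination -hb3'

/-- The excluded parameters. -/
noncomputable def bad (m : ℂ) : Polynomial ℂ :=
  Polynomial.C (-m) * (Polynomial.C 4 - Polynomial.C (3 * m) * Polynomial.X ^ 2 - Polynomial.X ^ 3) ^ 3 -
    Polynomial.C 81 * (Polynomial.X - Polynomial.C m) * Polynomial.X ^ 6

theorem bad_ne_zero {m : ℂ} (hm : m ^ 3 = 1) : bad m ≠ 0 := by
  intro h0
  have := congrArg (Polynomial.eval 0) h0
  simp [bad] at this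
  simp [this] at hm

theorem p_scalar {A : M3} {c : ℂ} (hk : k ^ 3 ≠ 1)
    (hbad : ∀ m : ℂ, m ^ 3 = 1 → (bad m).eval k ≠ 0) (hk0 : k ≠ 0)
    (hdet : A.det = 1) (hA : ∀ v, h k (A *ᵥ v) = c * h k v) (v : Fin 3 → ℂ) :
    p (A *ᵥ v) = c ^ 3 * p v := by
  have h1k : (1 : ℂ) - k ^ 3 ≠ 0 := sub_ne_zero.mpr (Ne.symm hk)
  set a := k ^ 2 * c * (1 - c ^ 2) / (4 * (1 - k ^ 3)) with ha
  have ha' : a * (4 * (1 - k ^ 3)) = k ^ 2 * c * (1 - c ^ 2) := by rw [ha]; field_simp
  have hP : ∀ v, p (A *ᵥ v) = a * (v 0 ^ 3 + v 1 ^ 3 + v 2 ^ 3) + (c ^ 3 - 3 * k * a) * p v := by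
    intro v
    refine mul_left_cancel₀ (mul_ne_zero (by norm_num : (8 : ℂ) ≠ 0) h1k) ?_
    have e := pencil hdet hA v
    have hh : h k v = v 0 ^ 3 + v 1 ^ 3 + v 2 ^ 3 - 3 * k * p v := rfl
    linear_combination e - 2 * (v 0 ^ 3 + v 1 ^ 3 + v 2 ^ 3 - 3 * k * p v) * ha' +
      2 * k ^ 2 * c * (1 - c ^ 2) * hh
  rcases eq_or_ne a 0 with h0 | h0
  · rw [hP, h0]; ring
  exfalso
  obtain ⟨m, hm, hb⟩ := singular_member hdet h0 hP
  refine hbad m hm ?_
  have hm' : ∀ v, p (A *ᵥ v) = a * h m v := by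
    intro v
    rw [hP, hb, h, p]
    ring
  have hdet2 : ∀ v, 2 * p (A *ᵥ v) = (3 * a) ^ 3 * (hessH m v).det := by
    intro v
    rw [← det_hessP]
    refine det_covariant hdet (congr_of_bilin _ _ _ _ fun u w => ?_)
    have := hess_covariant hm' v u w
    rw [pol_p, pol_h] at this
    linear_combination this
  have e := hdet2 ![1, 0, 0]
  rw [hm', det_hessH] at e
  simp [h, p] at e
  have ha2 : 27 * a ^ 2 = -m := by
    have : a * (27 * a ^ 2 * m ^ 2 + 1) = 0 := by linear_combination e / 2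
    have := (mul_eq_zero.mp this).resolve_left h0
    linear_combination m * this - 27 * a ^ 2 * hm
  have hc3 : c ^ 3 = 3 * a * (k - m) := by linear_combination hb
  have hkc : k ^ 2 * c = a * (4 - k ^ 3 - 3 * m * k ^ 2) := by
    linear_combination k ^ 2 * hc3 - ha'
  have hfin : a * (a ^ 2 * (4 - k ^ 3 - 3 * m * k ^ 2) ^ 3 - 3 * (k - m) * k ^ 6) = 0 := by
    have e3 := congrArg (· ^ 3) hkc
    simp only [mul_pow] at e3
    linear_combination -e3 + k ^ 6 * hc3
  have hfin' := (mul_eq_zero.mp hfin).resolve_left h0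
  simp [bad]
  linear_combination 27 * hfin' - (4 - k ^ 3 - 3 * m * k ^ 2) ^ 3 * ha2

/-- A row supported at one point, for every column. -/
theorem exists_row {A : M3} {b : ℂ} (hP : ∀ v, p (A *ᵥ v) = b * p v) (j : Fin 3) :
    ∃ i, ∀ l, l ≠ j → A i l = 0 := by
  obtain ⟨l₁, l₂, h12, hj1, hj2, hall⟩ : ∃ l₁ l₂ : Fin 3, l₁ ≠ l₂ ∧ j ≠ l₁ ∧ j ≠ l₂ ∧
      ∀ l, l ≠ j → l = l₁ ∨ l = l₂ :=
    ⟨j + 1, j + 2, by revert j; decide, by revert j; decide, by revert j; decide,
      by revert j; decide⟩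
  let P : Fin 3 → Polynomial ℂ := fun i =>
    Polynomial.C (A i l₁) + Polynomial.C (A i l₂) * Polynomial.X
  have hz : P 0 * P 1 * P 2 = 0 := by
    refine Polynomial.funext fun t => ?_
    let v : Fin 3 → ℂ := Pi.single l₁ 1 + Pi.single l₂ t
    have hvj : v j = 0 := by simp [v, Pi.single_eq_of_ne hj1, Pi.single_eq_of_ne hj2]
    have hAv : ∀ i, (A *ᵥ v) i = (P i).eval t := fun i => by
      simp [v, P, mulVec_add, mulVec_single]
      ring
    have hpv : p v = 0 := by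
      have : ∏ l, v l = 0 := Finset.prod_eq_zero (Finset.mem_univ j) hvj
      rwa [Fin.prod_univ_three] at this
    have := hP v
    rw [hpv, mul_zero, p, hAv, hAv, hAv] at this
    simpa using this
  obtain ⟨i, hi⟩ : ∃ i, P i = 0 := by
    rcases mul_eq_zero.mp hz with h | h
    · rcases mul_eq_zero.mp h with h | h <;> exact ⟨_, h⟩
    · exact ⟨_, h⟩
  refine ⟨i, fun l hl => ?_⟩
  have h0 := congrArg (fun q : Polynomial ℂ => q.coeff 0) hi
  have h1 := congrArg (fun q : Polynomial ℂ => q.coeff 1) hi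
  simp [P] at h0 h1
  rcases hall l hl with rfl | rfl
  · exact h0
  · exact h1

/-- The monomial matrices. -/
noncomputable def mono (ω : ℂ) (x : Equiv.Perm (Fin 3) × Fin 3 × Fin 3) : M3 :=
  Matrix.diagonal (fun i => ((Equiv.Perm.sign x.1 : ℤ) : ℂ) *
    ![ω ^ (x.2.1 : ℕ), ω ^ (x.2.2 : ℕ), ω ^ (2 * (x.2.1 : ℕ) + 2 * (x.2.2 : ℕ))] i) *
    x.1.permMatrix ℂ

theorem diag_perm_apply (a : Fin 3 → ℂ) (σ : Equiv.Perm (Fin 3)) (v : Fin 3 → ℂ) (i : Fin 3) :
    ((Matrix.diagonal a * σ.permMatrix ℂ) *ᵥ v) i = a i * v (σ i) := by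
  rw [← mulVec_mulVec, Matrix.permMatrix_mulVec, mulVec_diagonal]
  rfl

theorem card_eq {k : ℂ} (hk : k ^ 3 ≠ 1) (hk0 : k ≠ 0)
    (hbad : ∀ m : ℂ, m ^ 3 = 1 → (bad m).eval k ≠ 0) :
    Nat.card {A : M3 // A.det = 1 ∧ ∃ c : ℂ, ∀ v, h k (A *ᵥ v) = c * h k v} = 54 := by
  obtain ⟨ω, hω⟩ := Hesse.exists_omega
  have hω3 : ω ^ 3 = 1 := by linear_combination (ω - 1) * hω
  have hω0 : ω ≠ 0 := fun e => by rw [e] at hω; norm_num at hω
  have hω1 : ω ≠ 1 := fun e => by rw [e] at hω; norm_num at hω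
  have hω2 : ω ^ 2 ≠ 1 := fun e => hω1 (by linear_combination hω3 - ω * e)
  have hω12 : ω ^ 2 ≠ ω := fun e => hω1 (by
    have : ω * (ω - 1) = 0 := by linear_combination e
    exact sub_eq_zero.mp ((mul_eq_zero.mp this).resolve_left hω0))
  have hpinj : Function.Injective fun i : Fin 3 => ω ^ (i : ℕ) := by
    intro i j hij
    fin_cases i <;> fin_cases j <;>
      simp_all [eq_comm]
  have hroots : ∀ z : ℂ, z ^ 3 = 1 → ∃ i : Fin 3, z = ω ^ (i : ℕ) := by
    intro z hz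
    have : (z - 1) * (z - ω) * (z - ω ^ 2) = 0 := by
      linear_combination hz - hω3 + (-z ^ 2 + z * ω) * hω
    rcases mul_eq_zero.mp this with h | h
    · rcases mul_eq_zero.mp h with h | h
      · exact ⟨0, by simpa using sub_eq_zero.mp h⟩
      · exact ⟨1, by simpa using sub_eq_zero.mp h⟩
    · exact ⟨2, sub_eq_zero.mp h⟩
  have hsign : ∀ σ : Equiv.Perm (Fin 3),
      ((Equiv.Perm.sign σ : ℤ) : ℂ) * ((Equiv.Perm.sign σ : ℤ) : ℂ) = 1 := fun σ => by
    rcases Int.units_eq_one_or (Equiv.Perm.sign σ) with h | h <;> simp [h]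
  have hcube : ∀ (σ : Equiv.Perm (Fin 3)) (n : ℕ),
      (((Equiv.Perm.sign σ : ℤ) : ℂ) * ω ^ n) ^ 3 = ((Equiv.Perm.sign σ : ℤ) : ℂ) := fun σ n => by
    rw [mul_pow, ← pow_mul, mul_comm n 3, pow_mul, hω3, one_pow, mul_one, pow_succ, pow_two,
      hsign, one_mul]
  have hprod : ∀ (σ : Equiv.Perm (Fin 3)) (i j : ℕ),
      (((Equiv.Perm.sign σ : ℤ) : ℂ) * ω ^ i) * (((Equiv.Perm.sign σ : ℤ) : ℂ) * ω ^ j) *
        (((Equiv.Perm.sign σ : ℤ) : ℂ) * ω ^ (2 * i + 2 * j)) = ((Equiv.Perm.sign σ : ℤ) : ℂ) := by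
    intro σ i j
    have e : ω ^ i * ω ^ j * ω ^ (2 * i + 2 * j) = 1 := by
      rw [← pow_add, ← pow_add, show i + j + (2 * i + 2 * j) = 3 * (i + j) by ring, pow_mul, hω3,
        one_pow]
    linear_combination ((Equiv.Perm.sign σ : ℤ) : ℂ) ^ 3 * e +
      ((Equiv.Perm.sign σ : ℤ) : ℂ) * hsign σ
  have hperm : ∀ (σ : Equiv.Perm (Fin 3)) (g : Fin 3 → ℂ),
      g (σ 0) * g (σ 1) * g (σ 2) = g 0 * g 1 * g 2 ∧ g (σ 0) + g (σ 1) + g (σ 2) = g 0 + g 1 + g 2 := by
    intro σ g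
    have e1 := Equiv.prod_comp σ g
    have e2 := Equiv.sum_comp σ g
    rw [Fin.prod_univ_three, Fin.prod_univ_three] at e1
    rw [Fin.sum_univ_three, Fin.sum_univ_three] at e2
    exact ⟨e1, e2⟩
  have hmem : ∀ x, (mono ω x).det = 1 ∧ ∃ c : ℂ, ∀ v, h k (mono ω x *ᵥ v) = c * h k v := by
    rintro ⟨σ, i, j⟩
    refine ⟨?_, ((Equiv.Perm.sign σ : ℤ) : ℂ), fun v => ?_⟩
    · rw [mono, det_mul, det_diagonal, Matrix.det_permutation, Fin.prod_univ_three]
      simp only [Matrix.cons_val_zero, Matrix.cons_val_one, Matrix.cons_val]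
      rw [hprod]
      exact hsign σ
    · obtain ⟨e1, -⟩ := hperm σ v
      obtain ⟨-, e2⟩ := hperm σ (fun l => v l ^ 3)
      simp only [h, mono, diag_perm_apply]
      simp only [Matrix.cons_val_zero, Matrix.cons_val_one, Matrix.cons_val]
      set ε := ((Equiv.Perm.sign σ : ℤ) : ℂ)
      have c0 := hcube σ (i : ℕ)
      have c1 := hcube σ (j : ℕ)
      have c2 := hcube σ (2 * (i : ℕ) + 2 * (j : ℕ))
      have pp := hprod σ (i : ℕ) (j : ℕ)
      linear_combination v (σ 0) ^ 3 * c0 + v (σ 1) ^ 3 * c1 + v (σ 2) ^ 3 * c2 -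
        3 * k * (v (σ 0) * v (σ 1) * v (σ 2)) * pp + ε * e2 - 3 * k * ε * e1
  let Φ : Equiv.Perm (Fin 3) × Fin 3 × Fin 3 →
      {A : M3 // A.det = 1 ∧ ∃ c : ℂ, ∀ v, h k (A *ᵥ v) = c * h k v} :=
    fun x => ⟨mono ω x, hmem x⟩
  have hbij : Function.Bijective Φ := by
    constructor
    · rintro ⟨σ, i, j⟩ ⟨σ', i', j'⟩ heq
      have e : mono ω (σ, i, j) = mono ω (σ', i', j') := congrArg Subtype.val heq
      have hε : ∀ τ : Equiv.Perm (Fin 3), ((Equiv.Perm.sign τ : ℤ) : ℂ) ≠ 0 := fun τ =>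
        fun h0 => by simpa [h0] using hsign τ
      have hσ : σ = σ' := by
        refine Equiv.ext fun l => ?_
        have := congrFun (congrArg (fun M : M3 => M *ᵥ Pi.single (σ l) 1) e) l
        simp only [mono, diag_perm_apply] at this
        by_contra hne
        rw [Pi.single_eq_same, Pi.single_eq_of_ne (fun h => hne h.symm), mul_zero, mul_one] at this
        fin_cases l <;> simp [hε, hω0] at this
      subst hσ
      have he : ∀ l, (mono ω (σ, i, j) *ᵥ fun _ => 1) l = (mono ω (σ, i', j') *ᵥ fun _ => 1) l := by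
        intro l; rw [e]
      have h0 := he 0
      have h1 := he 1
      simp [mono, diag_perm_apply, hε] at h0 h1
      rw [hpinj h0, hpinj h1]
    · rintro ⟨A, hdet, c, hc⟩
      have hP := p_scalar hk hbad hk0 hdet hc
      choose π hπ using exists_row hP
      have hinj : Function.Injective π := by
        intro j j' hjj
        by_contra hne
        have : ∀ l, A (π j) l = 0 := fun l => by
          rcases eq_or_ne l j with rfl | hl
          · rw [hjj]; exact hπ j' _ hne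
          · exact hπ j l hl
        rw [det_eq_zero_of_row_eq_zero (π j) this] at hdet
        exact zero_ne_one hdet
      let e := Equiv.ofBijective π (Finite.injective_iff_bijective.mp hinj)
      set σ : Equiv.Perm (Fin 3) := e.symm with hσ
      set a : Fin 3 → ℂ := fun i => A i (σ i) with ha
      have hA : A = Matrix.diagonal a * σ.permMatrix ℂ := by
        refine Matrix.toLin'.injective (LinearMap.ext fun v => funext fun i => ?_)
        rw [Matrix.toLin'_apply, Matrix.toLin'_apply, diag_perm_apply]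
        simp only [mulVec, dotProduct]
        rw [Finset.sum_eq_single (σ i)]
        · intro l _ hl
          have hi : π (σ i) = i := e.apply_symm_apply i
          have := hπ (σ i) l hl
          rw [hi] at this
          rw [this, zero_mul]
        · simp
      have hval : ∀ v, h k (A *ᵥ v) =
          (a 0 * v (σ 0)) ^ 3 + (a 1 * v (σ 1)) ^ 3 + (a 2 * v (σ 2)) ^ 3 -
            3 * k * ((a 0 * v (σ 0)) * (a 1 * v (σ 1)) * (a 2 * v (σ 2))) := fun v => by
        rw [hA]; simp only [h, diag_perm_apply]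
      have hacube : ∀ i, a i ^ 3 = c := by
        intro i
        have h1 := hc (Pi.single (σ i) 1)
        rw [hval] at h1
        have h2 : h k (Pi.single (σ i) (1 : ℂ)) = 1 := by
          generalize σ i = l
          fin_cases l <;> simp [h]
        rw [h2, mul_one] at h1
        fin_cases i <;> simp [Pi.single_apply, σ.injective.eq_iff] at h1 ⊢ <;> linear_combination h1
      have hap : a 0 * a 1 * a 2 = c := by
        have h1 := hc fun _ => 1
        rw [hval] at h1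
        simp [h] at h1
        have := hacube 0; have := hacube 1; have := hacube 2
        refine mul_left_cancel₀ (mul_ne_zero three_ne_zero hk0) ?_
        linear_combination -h1 + hacube 0 + hacube 1 + hacube 2
      have hc' : c = ((Equiv.Perm.sign σ : ℤ) : ℂ) := by
        rw [hA, det_mul, det_diagonal, Fin.prod_univ_three, hap, Matrix.det_permutation] at hdet
        linear_combination ((Equiv.Perm.sign σ : ℤ) : ℂ) * hdet - c * hsign σ
      have hζ : ∀ i, ∃ n : Fin 3, a i = ((Equiv.Perm.sign σ : ℤ) : ℂ) * ω ^ (n : ℕ) := by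
        intro i
        have hcu : (((Equiv.Perm.sign σ : ℤ) : ℂ) * a i) ^ 3 = 1 := by
          rw [mul_pow, hacube, hc', pow_succ, pow_two, hsign, one_mul, hsign]
        obtain ⟨n, hn⟩ := hroots _ hcu
        exact ⟨n, by rw [← hn, ← mul_assoc, hsign, one_mul]⟩
      obtain ⟨i, hi⟩ := hζ 0
      obtain ⟨j, hj⟩ := hζ 1
      refine ⟨(σ, i, j), Subtype.ext ?_⟩
      show mono ω (σ, i, j) = A
      rw [hA, mono]
      congr 1
      congr 1
      funext l
      fin_cases l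
      · simpa using hi.symm
      · simpa using hj.symm
      · simp only [Fin.reduceFinMk, Matrix.cons_val]
        have pp := hprod σ (i : ℕ) (j : ℕ)
        rw [← hi, ← hj] at pp
        have hc0 : c ≠ 0 := c_ne_zero hdet hc
        have h01 : a 0 * a 1 ≠ 0 := by
          intro h0; rw [h0, zero_mul] at hap; exact hc0 hap.symm
        refine mul_left_cancel₀ h01 ?_
        rw [pp, ← hc']
        exact hap.symm
  rw [← Nat.card_congr (Equiv.ofBijective Φ hbij)]
  simp [Fintype.card_perm, Nat.factorial]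

end Groth.Agent.Cubic.HesseAut
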