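import Groth.Agent.Cubic.Eckardt
import Groth.Agent.Cubic.CommonZero
import Mathlib.LinearAlgebra.Matrix.ToLinearEquiv
import Mathlib.RingTheory.MvPolynomial.Homogeneous
import Mathlib.Analysis.Complex.Polynomial.Basic
import Groth.Prelude.Def_W4c5monodromycubicsHesse

/-!
Flexes and normal forms of smooth plane cubics.
-/

namespace Groth.Agent.Cubic.Plane

open MvPolynomial Matrix Groth.Agent.Cubic.Basic

/-- Smoothness of a plane cubic. -/
def Smooth (f : MvPolynomial (Fin 3) ℂ) : Prop :=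
  ∀ v : Fin 3 → ℂ, v ≠ 0 → eval v f = 0 → ∃ i : Fin 3, eval v (pderiv i f) ≠ 0

/-- The flex condition used in the statements. -/
def IsFlex (f : MvPolynomial (Fin 3) ℂ) (v : Fin 3 → ℂ) : Prop :=
  ∃ w : Fin 3 → ℂ, LinearIndependent ℂ ![v, w] ∧ ∀ t : ℂ, eval (v + t • w) f = t ^ 3 * eval w f

variable {f : MvPolynomial (Fin 3) ℂ}

theorem flex_line (hf : f.IsHomogeneous 3) {v w : Fin 3 → ℂ}
    (hfv : eval v f = 0) (h1 : B f v w = 0) (h2 : B f w v = 0) (t : ℂ) :
    eval (v + t • w) f = t ^ 3 * eval w f := by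
  rw [eval_line hf, hfv, h1, h2]
  ring

theorem flex_B (hf : f.IsHomogeneous 3) {v w : Fin 3 → ℂ} (hfv : eval v f = 0)
    (h : ∀ t : ℂ, eval (v + t • w) f = t ^ 3 * eval w f) : B f v w = 0 ∧ B f w v = 0 := by
  have e1 := h 1
  have e2 := h (-1)
  rw [eval_line hf, hfv] at e1 e2
  exact ⟨by linear_combination (e1 - e2) / 2, by linear_combination (e1 + e2) / 2⟩

theorem not_singular (hf : f.IsHomogeneous 3) (hsm : Smooth f) {v : Fin 3 → ℂ} (hv : v ≠ 0)
    (hfv : eval v f = 0) :
    ¬ ∀ w, eval (v + w) f - eval (v - w) f = 2 * eval w f := by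
  intro hg
  obtain ⟨w, hw⟩ := exists_B_ne_of_pderiv_ne (hsm v hv hfv)
  apply hw
  have h := hg w
  rw [show v + w = v + (1 : ℂ) • w by simp, show v - w = v + (-1 : ℂ) • w by simp [sub_eq_add_neg],
    eval_line hf, eval_line hf] at h
  linear_combination h / 2

theorem exists_flex (hf : f.IsHomogeneous 3) (hsm : Smooth f) :
    ∃ v w : Fin 3 → ℂ, v ≠ 0 ∧ eval v f = 0 ∧ LinearIndependent ℂ ![v, w] ∧
      B f v w = 0 ∧ B f w v = 0 := by
  have h0 : eval (0 : Fin 3 → ℂ) f = 0 := by
    have := eval_smul_cubic hf 0 (0 : Fin 3 → ℂ)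
    simpa using this
  let M : Matrix (Fin 3) (Fin 3) (MvPolynomial (Fin 3) ℂ) :=
    Matrix.of fun i j => pderiv i (pderiv j f)
  have hM : ∀ x i j, eval x (M i j) = B (dd (Pi.single i 1) f) x (Pi.single j 1) := by
    intro x i j
    simp only [B, M, Matrix.of_apply]
    rw [dd_comm, eval_dd_single]
    have : dd (Pi.single j (1 : ℂ)) f = pderiv j f := by
      simp [dd, Pi.single_apply]
    rw [this]
  have hdet : ∀ x, eval x M.det = (Matrix.of fun i j => eval x (M i j)).det := fun x => by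
    rw [RingHom.map_det]
    rfl
  have hH0 : eval (0 : Fin 3 → ℂ) M.det = 0 := by
    rw [hdet, det_eq_zero_of_row_eq_zero 0]
    intro j
    rw [Matrix.of_apply, hM, B_symm_deg_two (isHomogeneous_dd _ hf)]
    simp only [B]
    have h := eval_smul_deg_one
      (isHomogeneous_dd (0 : Fin 3 → ℂ) (isHomogeneous_dd (Pi.single 0 1) hf)) 0 (Pi.single j 1)
    simp [dd] at h ⊢
  obtain ⟨v, hv, hfv, hHv⟩ := CommonZero.exists_common_zero f M.det h0 hH0
  rw [hdet] at hHv
  obtain ⟨u, hu0, hu⟩ := Matrix.exists_mulVec_eq_zero_iff.mpr hHv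
  have hT : ∀ a, B (dd a f) v u = 0 := by
    have e : ∀ i, B (dd (Pi.single i 1) f) v u = 0 := fun i => by
      have h1 := congrFun hu i
      simp only [mulVec, dotProduct, Matrix.of_apply, Pi.zero_apply, hM] at h1
      rw [← h1]
      conv_lhs => rw [show u = ∑ j, u j • Pi.single j (1 : ℂ) by
        ext l; simp [Finset.sum_apply, Pi.single_apply]]
      rw [← Bₗ_apply, map_sum]
      refine Finset.sum_congr rfl fun j _ => ?_
      rw [map_smul, Bₗ_apply, smul_eq_mul, mul_comm]
    intro a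
    have h2 : B (dd a f) v u = ∑ i, a i * B (dd (Pi.single i 1) f) v u := by
      simp only [B]
      rw [dd_comm, eval_dd]
      refine Finset.sum_congr rfl fun i _ => ?_
      rw [dd_comm u (Pi.single i 1) f, eval_dd_single]
    simp [h2, e]
  have h1 : B f v u = 0 := by
    have h' : B (dd v f) v u = 2 * B f v u := by
      simp only [B]
      rw [dd_comm]
      simpa using euler (isHomogeneous_dd u hf) v
    have h'' := hT v
    rw [h'] at h''
    simpa using h''
  have h2 : B f u v = 0 := by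
    have := hT u
    rw [Eckardt.mixed hf] at this
    simpa using this
  refine ⟨v, u, hv, hfv, ?_, h1, h2⟩
  refine (LinearIndependent.pair_iff' hv).mpr fun a ha => ?_
  obtain ⟨x, hx⟩ := exists_B_ne_of_pderiv_ne (hsm v hv hfv)
  have ha0 : a ≠ 0 := fun h => hu0 (by rw [← ha, h, zero_smul])
  apply hx
  have := hT x
  rw [← ha, B_smul_right, mul_eq_zero] at this
  have h' := this.resolve_left ha0
  rw [B, euler (isHomogeneous_dd x hf)] at h'
  simp only [B]
  simpa using h'

theorem no_line (hf : f.IsHomogeneous 3) (hsm : Smooth f) {v w : Fin 3 → ℂ}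
    (hind : LinearIndependent ℂ ![v, w]) (hfv : eval v f = 0) (h1 : B f v w = 0)
    (h2 : B f w v = 0) : eval w f ≠ 0 := by
  intro hfw
  have hv : v ≠ 0 := hind.ne_zero (i := 0)
  have hw : w ≠ 0 := hind.ne_zero (i := 1)
  -- a third vector
  obtain ⟨u, hu⟩ : ∃ u, u ∉ Submodule.span ℂ ({v, w} : Set (Fin 3 → ℂ)) := by
    by_contra hc
    push Not at hc
    have h3 := Submodule.eq_top_iff'.mpr hc
    have h4 := finrank_span_eq_card hind
    rw [Matrix.range_cons_cons_empty, h3, finrank_top, Module.finrank_fin_fun, Fintype.card_fin] at h4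
    omega
  have htop : ⊤ = Submodule.span ℂ ({u} : Set (Fin 3 → ℂ)) ⊔ Submodule.span ℂ {v, w} := by
    symm
    refine Submodule.eq_top_of_finrank_eq ?_
    have hlt : Submodule.span ℂ ({v, w} : Set (Fin 3 → ℂ)) <
        Submodule.span ℂ ({u} : Set (Fin 3 → ℂ)) ⊔ Submodule.span ℂ {v, w} := by
      refine lt_of_le_of_ne le_sup_right fun h => hu ?_
      rw [h]
      exact Submodule.mem_sup_left (Submodule.mem_span_singleton_self u)
    have h4 := finrank_span_eq_card hind
    rw [Matrix.range_cons_cons_empty, Fintype.card_fin] at h4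
    have h5 := Submodule.finrank_lt_finrank_of_lt hlt
    have h6 := Submodule.finrank_le
      (Submodule.span ℂ ({u} : Set (Fin 3 → ℂ)) ⊔ Submodule.span ℂ {v, w})
    rw [Module.finrank_fin_fun] at h6 ⊢
    omega
  obtain ⟨a, b, hab, hroot⟩ : ∃ a b : ℂ, (a ≠ 0 ∨ b ≠ 0) ∧ B f (a • v + b • w) u = 0 := by
    rcases eq_or_ne (B f w u) 0 with h0 | h0
    · exact ⟨0, 1, Or.inr one_ne_zero, by simpa using h0⟩
    · let g : Polynomial ℂ := Polynomial.C (B f w u) * Polynomial.X ^ 2 +
        Polynomial.C (B (dd w f) v u) * Polynomial.X + Polynomial.C (B f v u)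
      have hd : g.degree = 2 := Polynomial.degree_quadratic h0
      obtain ⟨b, hb⟩ := IsAlgClosed.exists_root g (by rw [hd]; decide)
      refine ⟨1, b, Or.inl one_ne_zero, ?_⟩
      rw [one_smul, B_line_left hf]
      simp [g] at hb
      linear_combination hb
  have hz : a • v + b • w ≠ 0 := fun h => by
    have := LinearIndependent.pair_iff.mp hind a b h
    tauto
  have hall : ∀ c d : ℂ, eval (c • v + d • w) f = 0 := fun c d => by
    rw [eval_line hf, eval_smul_cubic hf, hfv, hfw, B_smul_left hf, B_smul_right, h1, h2]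
    ring
  obtain ⟨x, hx⟩ := exists_B_ne_of_pderiv_ne (hsm _ hz (hall a b))
  apply hx
  obtain ⟨y, hy, z, hzm, rfl⟩ :=
    Submodule.mem_sup.mp (htop ▸ Submodule.mem_top : x ∈ Submodule.span ℂ ({u} : Set (Fin 3 → ℂ)) ⊔ Submodule.span ℂ {v, w})
  obtain ⟨q, rfl⟩ := Submodule.mem_span_singleton.mp hy
  obtain ⟨c, d, rfl⟩ := Submodule.mem_span_pair.mp hzm
  have e : ∀ t : ℂ, eval ((a • v + b • w) + t • (c • v + d • w)) f = 0 := fun t => by
    rw [show (a • v + b • w) + t • (c • v + d • w) = (a + t * c) • v + (b + t * d) • w by module]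
    exact hall _ _
  have e1 := e 1
  have e2 := e (-1)
  rw [eval_line hf, hall a b, hall c d] at e1 e2
  rw [B_add_right, B_smul_right, hroot]
  linear_combination (e1 - e2) / 2

/-- The matrix with columns `a`, `b`, `c`. -/
def cols (a b c : Fin 3 → ℂ) : Matrix (Fin 3) (Fin 3) ℂ := Matrix.of fun i j => ![a i, b i, c i] j

theorem cols_mulVec (a b c : Fin 3 → ℂ) (x : Fin 3 → ℂ) :
    (cols a b c).mulVec x = x 0 • a + x 1 • b + x 2 • c := by
  ext i
  simp [cols, mulVec, dotProduct, Fin.sum_univ_three]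
  ring

theorem eval_form (k : ℂ) (v : Fin 3 → ℂ) :
    eval v (HesseCubic.form k) = v 0 ^ 3 + v 1 ^ 3 + v 2 ^ 3 - 3 * k * (v 0 * v 1 * v 2) := by
  simp [HesseCubic.form]

theorem form_hom (k : ℂ) : (HesseCubic.form k : MvPolynomial (Fin 3) ℂ).IsHomogeneous 3 := by
  unfold HesseCubic.form
  refine (((isHomogeneous_X_pow 0 3).add (isHomogeneous_X_pow 1 3)).add
    (isHomogeneous_X_pow 2 3)).sub ?_
  exact (((isHomogeneous_X ℂ 0).mul (isHomogeneous_X ℂ 1)).mul (isHomogeneous_X ℂ 2)).C_mul _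

theorem isUnit_det_cols {a b c : Fin 3 → ℂ}
    (h : ∀ x y z : ℂ, x • a + y • b + z • c = 0 → x = 0 ∧ y = 0 ∧ z = 0) :
    IsUnit (cols a b c).det := by
  rw [isUnit_iff_ne_zero]
  intro hd
  obtain ⟨x, hx0, hx⟩ := Matrix.exists_mulVec_eq_zero_iff.mpr hd
  rw [cols_mulVec] at hx
  obtain ⟨a0, a1, a2⟩ := h _ _ _ hx
  exact hx0 (funext fun i => by fin_cases i <;> assumption)

/-- Every smooth cubic is projectively equivalent to `y²z = x³ + p x z² + q z³`. -/
theorem exists_weierstrass (hf : f.IsHomogeneous 3) (hsm : Smooth f) :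
    ∃ (A : Matrix (Fin 3) (Fin 3) ℂ) (κ p q : ℂ), IsUnit A.det ∧ κ ≠ 0 ∧ ∀ v, eval (A.mulVec v) f =
      κ * (v 1 ^ 2 * v 2 - v 0 ^ 3 - p * v 0 * v 2 ^ 2 - q * v 2 ^ 3) := by
  obtain ⟨P, w, hP, hfP, hind, h1, h2⟩ := exists_flex hf hsm
  have ha := no_line hf hsm hind hfP h1 h2
  obtain ⟨u, hd⟩ := exists_B_ne_of_pderiv_ne (hsm P hP hfP)
  set a := eval w f with hadef
  set b := B f w u with hb
  set c := B (dd P f) w u with hc
  set d := B f P u with hddef
  set e := B f u w with he
  set h := B f u P with hh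
  set i := eval u f with hi
  have expand : ∀ x y z : ℂ, eval (x • w + y • P + z • u) f =
      a * x ^ 3 + z * (b * x ^ 2 + c * x * y + d * y ^ 2) + z ^ 2 * (e * x + h * y) + i * z ^ 3 := by
    intro x y z
    have hPxw : B (dd P f) (x • w) u = x * c := by
      rw [B_symm_deg_two (isHomogeneous_dd P hf), B_smul_right,
        B_symm_deg_two (isHomogeneous_dd P hf), hc]
    rw [eval_line hf, eval_line hf, eval_smul_cubic hf, hfP, B_smul_left hf, h2, B_smul_right, h1,
      B_add_right, B_smul_right, B_smul_right, B_line_left hf, B_smul_left hf, hPxw]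
    ring
  set β := b - c ^ 2 / (4 * d) with hβ
  let E := (e - c * h / (2 * d)) - β ^ 2 / (3 * a)
  let I' := (i - h ^ 2 / (4 * d)) - β * (e - c * h / (2 * d)) / (3 * a) + 2 * β ^ 3 / (27 * a ^ 2)
  refine ⟨cols (w - (c / (2 * d)) • P) P
    ((β / (3 * d)) • w + (-(c * β) / (6 * d ^ 2) + h * a / (2 * d ^ 2)) • P - (a / d) • u),
    -a, E * a / d ^ 2, -(I' * a ^ 2) / d ^ 3, ?_, neg_ne_zero.mpr ha, fun v => ?_⟩
  · refine isUnit_det_cols fun x y z hz => ?_
    have hind3 : ∀ x y z : ℂ, x • w + y • P + z • u = 0 → x = 0 ∧ y = 0 ∧ z = 0 := by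
      intro x y z hz
      have hz0 : z = 0 := by
        have hBP := congrArg (Bₗ f P) hz
        rw [map_add, map_add, map_smul, map_smul, map_smul, map_zero] at hBP
        simp [h1, B_self hf, hfP] at hBP
        exact hBP.resolve_right hd
      subst hz0
      simp only [zero_smul, add_zero] at hz
      have := LinearIndependent.pair_iff.mp hind y x (by rw [add_comm]; exact hz)
      exact ⟨this.2, this.1, rfl⟩
    obtain ⟨e1, e2, e3⟩ := hind3 (x + z * (β / (3 * d)))
      (-x * (c / (2 * d)) + y + z * (-(c * β) / (6 * d ^ 2) + h * a / (2 * d ^ 2))) (-z * (a / d))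
      (by linear_combination (norm := module) hz)
    have hz0 : z = 0 := by
      rcases mul_eq_zero.mp e3 with h0 | h0
      · simpa using h0
      · exact absurd h0 (div_ne_zero ha hd)
    subst hz0
    simp only [zero_mul, add_zero] at e1
    subst e1
    simp at e2
    exact ⟨rfl, e2, rfl⟩
  · rw [cols_mulVec, show v 0 • (w - (c / (2 * d)) • P) + v 1 • P +
      v 2 • ((β / (3 * d)) • w + (-(c * β) / (6 * d ^ 2) + h * a / (2 * d ^ 2)) • P - (a / d) • u) =
      (v 0 + v 2 * (β / (3 * d))) • w +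
      (-v 0 * (c / (2 * d)) + v 1 + v 2 * (-(c * β) / (6 * d ^ 2) + h * a / (2 * d ^ 2))) • P +
      (-v 2 * (a / d)) • u by module, expand]
    simp only [E, I', hβ]
    have : d ≠ 0 := hd
    field_simp
    ring

end Groth.Agent.Cubic.Plane
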