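import Groth.Agent.Cubic.Eckardt
import Mathlib.RingTheory.MvPolynomial.Homogeneous
import Mathlib.RingTheory.Ideal.Quotient.Operations
import Mathlib.FieldTheory.IsAlgClosed.Basic

/-!
Restrictions of forms to linear subspaces.
-/

namespace Groth.Agent.Cubic.Restrict

open MvPolynomial Groth.Agent.Cubic.Basic

variable {K : Type*} [Field K] {n : ℕ}

theorem binary_quad [IsAlgClosed K] (a b c : K) :
    ∃ p₁ q₁ p₂ q₂ : K, ∀ y z : K,
      a * y ^ 2 + b * (y * z) + c * z ^ 2 = (p₁ * y + q₁ * z) * (p₂ * y + q₂ * z) := by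
  rcases eq_or_ne a 0 with rfl | ha
  · exact ⟨0, 1, b, c, fun y z => by ring⟩
  · let g : Polynomial K := Polynomial.C a * Polynomial.X ^ 2 + Polynomial.C b * Polynomial.X + Polynomial.C c
    have hd : g.degree = 2 := Polynomial.degree_quadratic ha
    obtain ⟨r, hr⟩ := IsAlgClosed.exists_root g (by rw [hd]; decide)
    simp [g] at hr
    exact ⟨1, -r, a, b + a * r, fun y z => by linear_combination z ^ 2 * hr⟩

theorem binary_cubic [IsAlgClosed K] (a b c d : K) :
    ∃ p₁ q₁ p₂ q₂ p₃ q₃ : K, ∀ y z : K,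
      a * y ^ 3 + b * (y ^ 2 * z) + c * (y * z ^ 2) + d * z ^ 3 =
        (p₁ * y + q₁ * z) * (p₂ * y + q₂ * z) * (p₃ * y + q₃ * z) := by
  rcases eq_or_ne a 0 with rfl | ha
  · obtain ⟨p₁, q₁, p₂, q₂, h⟩ := binary_quad b c d
    exact ⟨0, 1, p₁, q₁, p₂, q₂, fun y z => by linear_combination z * h y z⟩
  · let g : Polynomial K := Polynomial.C a * Polynomial.X ^ 3 + Polynomial.C b * Polynomial.X ^ 2 +
      Polynomial.C c * Polynomial.X + Polynomial.C d
    have hd : g.degree = 3 := Polynomial.degree_cubic ha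
    obtain ⟨r, hr⟩ := IsAlgClosed.exists_root g (by rw [hd]; decide)
    simp [g] at hr
    obtain ⟨p₁, q₁, p₂, q₂, h⟩ := binary_quad a (b + a * r) (c + (b + a * r) * r)
    exact ⟨1, -r, p₁, q₁, p₂, q₂, fun y z => by
      linear_combination (y - r * z) * h y z + z ^ 3 * hr⟩

/-- The zero of a nonzero binary linear form. -/
theorem binary_linear_zero {p q y z : K} (h0 : p ≠ 0 ∨ q ≠ 0) (h : p * y + q * z = 0) :
    ∃ t : K, y = t * q ∧ z = t * -p := by
  rcases eq_or_ne q 0 with rfl | hq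
  · have hp : p ≠ 0 := by simpa using h0
    refine ⟨z / -p, ?_, by field_simp⟩
    have : p * y = 0 := by linear_combination h
    simpa [hp] using this
  · exact ⟨y / q, by field_simp, by field_simp; linear_combination h⟩

theorem exists_binary_zero [IsAlgClosed K] (a b c : K) :
    ∃ y z : K, (y ≠ 0 ∨ z ≠ 0) ∧ a * y ^ 2 + b * (y * z) + c * z ^ 2 = 0 := by
  obtain ⟨p, q, p₂, q₂, h⟩ := binary_quad a b c
  by_cases h0 : p = 0 ∧ q = 0
  · exact ⟨1, 0, Or.inl one_ne_zero, by rw [h, h0.1, h0.2]; ring⟩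
  · refine ⟨q, -p, ?_, by rw [h]; ring⟩
    by_cases hq : q = 0
    · exact Or.inr (neg_ne_zero.mpr fun hp => h0 ⟨hp, hq⟩)
    · exact Or.inl hq

/-- The linear polynomial of a linear form. -/
noncomputable def lin (m : (Fin n → K) →ₗ[K] K) : MvPolynomial (Fin n) K :=
  ∑ i, C (m (Pi.single i 1)) * X i

theorem eval_lin (m : (Fin n → K) →ₗ[K] K) (x : Fin n → K) : eval x (lin m) = m x := by
  conv_rhs => rw [← Finset.univ_sum_single x, map_sum]
  simp only [lin, map_sum, map_mul, eval_C, eval_X]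
  refine Finset.sum_congr rfl fun i _ => ?_
  rw [show Pi.single i (x i) = x i • (Pi.single i (1 : K) : Fin n → K) by
    ext j; simp [Pi.single_apply], map_smul, smul_eq_mul, mul_comm]

theorem isHomogeneous_lin (m : (Fin n → K) →ₗ[K] K) : (lin m).IsHomogeneous 1 :=
  IsHomogeneous.sum _ _ _ fun i _ => isHomogeneous_C_mul_X _ _

theorem eval_proj (ℓ : MvPolynomial (Fin n) K) (u₀ x : Fin n → K) (p : MvPolynomial (Fin n) K) :
    eval (x - eval x ℓ • u₀) p = eval x (aeval (fun i => X i - C (u₀ i) * ℓ) p) := by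
  induction p using MvPolynomial.induction_on with
  | C a => simp
  | add p q hp hq => rw [map_add, map_add, map_add, hp, hq]
  | mul_X p i hp =>
    rw [map_mul, map_mul, map_mul, hp, eval_X, aeval_X]
    simp [mul_comm]

theorem sub_proj_mem (ℓ : MvPolynomial (Fin n) K) (u₀ : Fin n → K) (p : MvPolynomial (Fin n) K) :
    p - aeval (fun i => X i - C (u₀ i) * ℓ) p ∈ Ideal.span {ℓ} := by
  induction p using MvPolynomial.induction_on with
  | C a => simp
  | add p q hp hq =>
    rw [map_add]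
    have := Ideal.add_mem _ hp hq
    convert this using 1
    ring
  | mul_X p i hp =>
    rw [map_mul, aeval_X]
    have h2 : C (u₀ i) * ℓ ∈ Ideal.span {ℓ} :=
      Ideal.mul_mem_left _ _ (Ideal.mem_span_singleton_self ℓ)
    have := Ideal.add_mem _ (Ideal.mul_mem_right (X i) _ hp)
      (Ideal.mul_mem_left _ (aeval (fun i => X i - C (u₀ i) * ℓ) p) h2)
    convert this using 1
    ring

/-- Congruence modulo a linear form. -/
theorem sub_mem_span_linear [CharZero K] (P Q : MvPolynomial (Fin n) K)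
    (ℓ : MvPolynomial (Fin n) K) (u₀ : Fin n → K)
    (h : ∀ x, eval (x - eval x ℓ • u₀) P = eval x Q) : P - Q ∈ Ideal.span {ℓ} := by
  have hQ : Q = aeval (fun i => X i - C (u₀ i) * ℓ) P :=
    MvPolynomial.funext fun x => by rw [← h, eval_proj]
  rw [hQ]
  exact sub_proj_mem ℓ u₀ P

theorem exists_notMem_of_finrank_lt {U W : Submodule K (Fin n → K)}
    (h : Module.finrank K ↥U < Module.finrank K ↥W) : ∃ u ∈ W, u ∉ U := by
  by_contra hc
  push Not at hc
  have := Submodule.finrank_mono (s := W) (t := U) hc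
  omega

/-- A frame of `K⁴` adapted to a point `v` of the plane `ker l`. -/
structure Frame (l : (Fin 4 → K) →ₗ[K] K) (v : Fin 4 → K) where
  u₀ : Fin 4 → K
  u₁ : Fin 4 → K
  u₂ : Fin 4 → K
  c₁ : (Fin 4 → K) →ₗ[K] K
  c₂ : (Fin 4 → K) →ₗ[K] K
  c₃ : (Fin 4 → K) →ₗ[K] K
  l₀ : l u₀ = 1
  l₁ : l u₁ = 0
  l₂ : l u₂ = 0
  decomp : ∀ x, x - l x • u₀ = c₁ x • v + c₂ x • u₁ + c₃ x • u₂
  coord : ∀ s t w : K, c₁ (s • v + t • u₁ + w • u₂) = s ∧ c₂ (s • v + t • u₁ + w • u₂) = t ∧
    c₃ (s • v + t • u₁ + w • u₂) = w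

theorem frame_li {l : (Fin 4 → K) →ₗ[K] K} {v : Fin 4 → K} (F : Frame l v) {s t w : K}
    (h : s • v + t • F.u₁ + w • F.u₂ = 0) : s = 0 ∧ t = 0 ∧ w = 0 := by
  obtain ⟨e1, e2, e3⟩ := F.coord s t w
  rw [h, map_zero] at e1 e2 e3
  exact ⟨e1.symm, e2.symm, e3.symm⟩

theorem nonempty_frame [CharZero K] (l : (Fin 4 → K) →ₗ[K] K) (v : Fin 4 → K) (hl : l ≠ 0) (hv : v ≠ 0)
    (hlv : l v = 0) : Nonempty (Frame l v) := by
  obtain ⟨u₀, hu₀⟩ := LinearMap.surjective hl 1
  have h3 : Module.finrank K ↥(LinearMap.ker l) = 3 := Eckardt.finrank_ker_eq_three l hl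
  obtain ⟨u₁, hu₁, hu₁'⟩ := exists_notMem_of_finrank_lt (U := Submodule.span K {v})
    (W := LinearMap.ker l) (by rw [finrank_span_singleton hv, h3]; norm_num)
  have hli : LinearIndependent K ![v, u₁] := (LinearIndependent.pair_iff' hv).mpr fun a ha =>
    hu₁' (Submodule.mem_span_singleton.mpr ⟨a, ha⟩)
  have h2 : Module.finrank K ↥(Submodule.span K ({v, u₁} : Set (Fin 4 → K))) = 2 := by
    have h2 := finrank_span_eq_card hli
    rwa [Matrix.range_cons_cons_empty, Fintype.card_fin] at h2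
  obtain ⟨u₂, hu₂, hu₂'⟩ := exists_notMem_of_finrank_lt (U := Submodule.span K ({v, u₁} : Set (Fin 4 → K)))
    (W := LinearMap.ker l) (by rw [h2, h3]; norm_num)
  rw [LinearMap.mem_ker] at hu₁ hu₂
  have hb : LinearIndependent K ![u₀, v, u₁, u₂] := by
    rw [Fintype.linearIndependent_iff]
    intro g hg
    simp [Fin.sum_univ_four] at hg
    have g0 : g 0 = 0 := by
      have := congrArg l hg
      simpa [hu₀, hlv, hu₁, hu₂] using this
    simp only [g0, zero_smul, zero_add] at hg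
    have g3 : g 3 = 0 := by
      by_contra hc
      apply hu₂'
      refine Submodule.mem_span_pair.mpr ⟨-(g 3)⁻¹ * g 1, -(g 3)⁻¹ * g 2, ?_⟩
      have h' := congrArg (fun z => (g 3)⁻¹ • z) hg
      simp only [smul_add, smul_zero, smul_smul, inv_mul_cancel₀ hc, one_smul] at h'
      linear_combination (norm := module) -h'
    simp only [g3, zero_smul, add_zero] at hg
    have := LinearIndependent.pair_iff.mp hli _ _ hg
    intro i
    fin_cases i
    · exact g0
    · exact this.1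
    · exact this.2
    · exact g3
  let b := basisOfLinearIndependentOfCardEqFinrank hb (by simp)
  have hb' : ⇑b = ![u₀, v, u₁, u₂] := coe_basisOfLinearIndependentOfCardEqFinrank _ _
  have hrepr : ∀ x, b.coord 0 x • u₀ + b.coord 1 x • v + b.coord 2 x • u₁ + b.coord 3 x • u₂ = x :=
    fun x => by
      have := b.sum_repr x
      simpa [Fin.sum_univ_four, hb'] using this
  have hl0 : ∀ x, b.coord 0 x = l x := fun x => by
    conv_rhs => rw [← hrepr x]
    simp [hu₀, hlv, hu₁, hu₂]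
  have hc : ∀ i j, b.coord i (![u₀, v, u₁, u₂] j) = if j = i then 1 else 0 := fun i j => by
    rw [← hb']
    simp [Finsupp.single_apply]
  refine ⟨⟨u₀, u₁, u₂, b.coord 1, b.coord 2, b.coord 3, hu₀, hu₁, hu₂, fun x => ?_, fun s t w => ?_⟩⟩
  · conv_lhs => rw [← hl0]; enter [1]; rw [← hrepr x]
    module
  · have a1 := hc 1; have a2 := hc 2; have a3 := hc 3
    refine ⟨?_, ?_, ?_⟩
    · rw [map_add, map_add, map_smul, map_smul, map_smul, show b.coord 1 v = 1 from a1 1,
        show b.coord 1 u₁ = 0 from a1 2, show b.coord 1 u₂ = 0 from a1 3]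
      simp
    · rw [map_add, map_add, map_smul, map_smul, map_smul, show b.coord 2 v = 0 from a2 1,
        show b.coord 2 u₁ = 1 from a2 2, show b.coord 2 u₂ = 0 from a2 3]
      simp
    · rw [map_add, map_add, map_smul, map_smul, map_smul, show b.coord 3 v = 0 from a3 1,
        show b.coord 3 u₁ = 0 from a3 2, show b.coord 3 u₂ = 1 from a3 3]
      simp

/-- Expansion of a cubic on a plane through a zero `v` whose tangent plane contains the plane. -/
theorem eval_frame [CharZero K] {f : MvPolynomial (Fin 4) K} (hf : f.IsHomogeneous 3)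
    {v : Fin 4 → K} (hfv : eval v f = 0) {l : (Fin 4 → K) →ₗ[K] K} (F : Frame l v)
    (hB : ∀ t w : K, B f v (t • F.u₁ + w • F.u₂) = 0) (s t w : K) :
    eval (s • v + t • F.u₁ + w • F.u₂) f = eval (t • F.u₁ + w • F.u₂) f +
      s * (B f F.u₁ v * t ^ 2 + B (dd v f) F.u₁ F.u₂ * (t * w) + B f F.u₂ v * w ^ 2) := by
  rw [show s • v + t • F.u₁ + w • F.u₂ = (t • F.u₁ + w • F.u₂) + s • v by abel,
    eval_line hf, hfv, hB]
  have e : B f (t • F.u₁ + w • F.u₂) v =
      B f F.u₁ v * t ^ 2 + B (dd v f) F.u₁ F.u₂ * (t * w) + B f F.u₂ v * w ^ 2 := by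
    rw [B_line_left hf, B_smul_left hf]
    have e1 : B (dd F.u₂ f) (t • F.u₁) v = t * B (dd v f) F.u₁ F.u₂ := by
      rw [show B (dd F.u₂ f) (t • F.u₁) v = B (dd v f) (t • F.u₁) F.u₂ by simp only [B]; rw [dd_comm],
        B_symm_deg_two (isHomogeneous_dd v hf), B_smul_right, B_symm_deg_two (isHomogeneous_dd v hf)]
    rw [e1]
    ring
  rw [e]
  ring

/-- Expansion of a binary cubic. -/
theorem eval_pair [CharZero K] {σ : Type*} [Fintype σ] {f : MvPolynomial σ K} (hf : f.IsHomogeneous 3)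
    (a b : σ → K) (y z : K) :
    eval (y • a + z • b) f = eval a f * y ^ 3 + B f a b * (y ^ 2 * z) + B f b a * (y * z ^ 2) +
      eval b f * z ^ 3 := by
  rw [eval_line hf, eval_smul_cubic hf, B_smul_left hf, B_smul_right]
  ring

/-- Lines through a point of the surface lie in its tangent plane and its first polar. -/
theorem line_props [CharZero K] {σ : Type*} [Fintype σ] {f : MvPolynomial σ K} (hf : f.IsHomogeneous 3)
    {a : σ → K} (hfa : eval a f = 0) {U : Submodule K (σ → K)} (haU : a ∈ U)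
    (hU : ∀ u ∈ U, eval u f = 0) {u : σ → K} (hu : u ∈ U) : B f a u = 0 ∧ B f u a = 0 := by
  have h1 := hU _ (U.add_mem hu (U.smul_mem (1 : K) haU))
  have h2 := hU _ (U.add_mem hu (U.smul_mem (-1 : K) haU))
  rw [eval_line hf, hU u hu, hfa] at h1 h2
  exact ⟨by linear_combination (h1 + h2) / 2, by linear_combination (h1 - h2) / 2⟩

end Groth.Agent.Cubic.Restrict
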