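import Groth.Agent.Cubic.TwentySeven
import Groth.Agent.Cubic.CommonZero

/-! Lines meeting two meeting lines on a smooth cubic threefold. -/

namespace Groth.Agent.Cubic.ThreefoldMeet

open MvPolynomial Groth.Agent.Cubic
open Groth.Agent.Cubic.Basic (B dd)

variable {K : Type} [Field K] [IsAlgClosed K] [CharZero K]
variable {f : MvPolynomial (Fin 5) K} (hf : f.IsHomogeneous 3)
  (hsm : ∀ u : Fin 5 → K, u ≠ 0 → eval u f = 0 → ∃ i : Fin 5, eval u (pderiv i f) ≠ 0)

include hf hsm in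
theorem no_plane (P : Submodule K (Fin 5 → K)) (hP : Module.finrank K ↥P = 3)
    (hPf : ∀ u ∈ P, eval u f = 0) : False := by
  classical
  obtain ⟨d₁, -, hd₁⟩ := Restrict.exists_notMem_of_finrank_lt (U := P) (W := ⊤) (by rw [hP]; simp)
  set P₁ := P ⊔ Submodule.span K {d₁} with hP₁
  have hP1 : Module.finrank K ↥P₁ ≤ 4 := by
    have := Submodule.finrank_add_le_finrank_add_finrank P (Submodule.span K {d₁})
    rw [hP, finrank_span_singleton (fun h => hd₁ (by rw [h]; exact P.zero_mem))] at this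
    exact this
  obtain ⟨d₂, -, hd₂⟩ := Restrict.exists_notMem_of_finrank_lt (U := P₁) (W := ⊤)
    (by rw [finrank_top, Module.finrank_fin_fun]; omega)
  have hlt : P₁ < P₁ ⊔ Submodule.span K {d₂} := lt_of_le_of_ne le_sup_left fun h =>
    hd₂ (by rw [h]; exact Submodule.mem_sup_right (Submodule.mem_span_singleton_self d₂))
  have hlt1 : P < P₁ := lt_of_le_of_ne le_sup_left fun h =>
    hd₁ (by rw [h]; exact Submodule.mem_sup_right (Submodule.mem_span_singleton_self d₁))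
  have h4 := Submodule.finrank_lt_finrank_of_lt hlt1
  have h5 := Submodule.finrank_lt_finrank_of_lt hlt
  have htop : P₁ ⊔ Submodule.span K {d₂} = ⊤ := Submodule.eq_top_of_finrank_eq (by
    have := Submodule.finrank_le (P₁ ⊔ Submodule.span K {d₂})
    rw [Module.finrank_fin_fun] at this ⊢
    omega)
  let b := Module.finBasisOfFinrankEq K ↥P hP
  let A : Matrix (Fin 5) (Fin 3) K := Matrix.of fun i j => (b j : Fin 5 → K) i
  have hA : ∀ v, A.mulVec v = ∑ j, v j • (b j : Fin 5 → K) := fun v => by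
    funext i; simp [A, Matrix.mulVec, dotProduct, mul_comm]
  let q : (Fin 5 → K) → MvPolynomial (Fin 3) K := fun d =>
    aeval (fun i : Fin 5 => ∑ j, C (A i j) * X j) (dd d f)
  have hq : ∀ d v, eval v (q d) = B f (A.mulVec v) d := fun d v => Basic.eval_subst A _ v
  have hq0 : ∀ d, eval (0 : Fin 3 → K) (q d) = 0 := fun d => by
    rw [hq, Matrix.mulVec_zero]
    simpa using Basic.B_smul_left hf 0 (0 : Fin 5 → K) d
  obtain ⟨v, hv, h1, h2⟩ := CommonZero.exists_common_zero (q d₁) (q d₂) (hq0 _) (hq0 _)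
  rw [hq] at h1 h2
  set w := A.mulVec v with hw
  have hwP : w ∈ P := by
    rw [hw, hA]; exact P.sum_mem fun j _ => P.smul_mem _ (b j).2
  have hw0 : w ≠ 0 := fun h => hv (by
    rw [hw, hA] at h
    have h' : ∑ j, v j • b j = 0 := Subtype.ext (by simpa using h)
    exact funext (Fintype.linearIndependent_iff.1 b.linearIndependent v h'))
  obtain ⟨d, hd⟩ := Basic.exists_B_ne_of_pderiv_ne (hsm w hw0 (hPf w hwP))
  apply hd
  have hBP : ∀ u ∈ P, B f w u = 0 := fun u hu => by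
    have e1 := Basic.eval_line hf w u 1
    have e2 := Basic.eval_line hf w u (-1)
    rw [hPf _ hwP, hPf _ hu, hPf _ (P.add_mem hwP (P.smul_mem _ hu))] at e1 e2
    linear_combination -(e1 - e2) / 2
  have hd' : d ∈ P₁ ⊔ Submodule.span K {d₂} := htop ▸ trivial
  obtain ⟨a, ha, c, hc, rfl⟩ := Submodule.mem_sup.1 hd'
  obtain ⟨a', ha', c', hc', rfl⟩ := Submodule.mem_sup.1 ha
  obtain ⟨s, rfl⟩ := Submodule.mem_span_singleton.1 hc
  obtain ⟨t, rfl⟩ := Submodule.mem_span_singleton.1 hc'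
  simp [Basic.B_add_right, Basic.B_smul_right, hBP a' ha', h1, h2]

include hf hsm in
theorem exists_finite_meeting (L₁ L₂ : Submodule K (Fin 5 → K))
    (h₁ : Module.finrank K ↥L₁ = 2) (h₂ : Module.finrank K ↥L₂ = 2)
    (hf₁ : ∀ u ∈ L₁, eval u f = 0) (hf₂ : ∀ u ∈ L₂, eval u f = 0)
    (hne : L₁ ≠ L₂) (hmeet : L₁ ⊓ L₂ ≠ ⊥) :
    ∃ G : Set (Submodule K (Fin 5 → K)), G.Finite ∧ (∀ g ∈ G, Module.finrank K ↥g = 1 ∧ g ≤ L₁) ∧
      ∀ L : Submodule K (Fin 5 → K), Module.finrank K ↥L = 2 → (∀ u ∈ L, eval u f = 0) →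
        L ⊓ L₁ ≠ ⊥ → L ⊓ L₂ ≠ ⊥ → ∃ g ∈ G, g ≤ L := by
  classical
  obtain ⟨p, ⟨hp1, hp2⟩, hp0⟩ := (Submodule.ne_bot_iff _).1 hmeet
  have hlow : ∀ M : Submodule K (Fin 5 → K), Module.finrank K ↥M = 2 → M ≠ L₁ → M ⊓ L₁ ≠ ⊥ →
      Module.finrank K ↥(M ⊓ L₁) = 1 := by
    intro M hM hne' hm
    have h0 : Module.finrank K ↥(M ⊓ L₁) ≠ 0 := fun h' => hm (Submodule.finrank_eq_zero.1 h')
    have h3 : M ⊓ L₁ < M := lt_of_le_of_ne inf_le_left fun h => hne'
      (Submodule.eq_of_le_of_finrank_le (inf_eq_left.1 h) (by rw [h₁, hM]))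
    have := Submodule.finrank_lt_finrank_of_lt h3
    omega
  have hinf : Module.finrank K ↥(L₁ ⊓ L₂) = 1 := by
    rw [inf_comm]; exact hlow L₂ h₂ hne.symm (by rwa [inf_comm])
  set P := L₁ ⊔ L₂ with hPdef
  have hP : Module.finrank K ↥P = 3 := by
    have := Submodule.finrank_sup_add_finrank_inf_eq L₁ L₂
    rw [hinf, h₁, h₂] at this
    rw [hPdef]; omega
  have hspanp : ∀ {M : Submodule K (Fin 5 → K)}, Module.finrank K ↥M = 2 → p ∈ M →
      ∀ a ∈ M, a ∉ Submodule.span K {p} → Submodule.span K {p} ⊔ Submodule.span K {a} = M := by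
    intro M hM hpM a ha hap
    refine Submodule.eq_of_le_of_finrank_le (sup_le ((Submodule.span_singleton_le_iff_mem _ _).2 hpM)
      ((Submodule.span_singleton_le_iff_mem _ _).2 ha)) ?_
    have hlt : Submodule.span K {p} < Submodule.span K {p} ⊔ Submodule.span K {a} :=
      lt_of_le_of_ne le_sup_left fun h => hap (by rw [h]; exact Submodule.mem_sup_right (Submodule.mem_span_singleton_self a))
    have := Submodule.finrank_lt_finrank_of_lt hlt
    rw [finrank_span_singleton hp0] at this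
    omega
  obtain ⟨a, ha, hap⟩ := Restrict.exists_notMem_of_finrank_lt (U := Submodule.span K {p}) (W := L₁)
    (by rw [finrank_span_singleton hp0, h₁]; norm_num)
  obtain ⟨b, hb, hbp⟩ := Restrict.exists_notMem_of_finrank_lt (U := Submodule.span K {p}) (W := L₂)
    (by rw [finrank_span_singleton hp0, h₂]; norm_num)
  have hmem1 : ∀ x y : K, x • p + y • a ∈ L₁ := fun x y => L₁.add_mem (L₁.smul_mem x hp1) (L₁.smul_mem y ha)
  have hmem2 : ∀ x y : K, x • p + y • b ∈ L₂ := fun x y => L₂.add_mem (L₂.smul_mem x hp2) (L₂.smul_mem y hb)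
  have hcoord : ∀ u ∈ P, ∃ x y z : K, u = x • p + y • a + z • b := by
    intro u hu
    rw [hPdef, ← hspanp h₁ hp1 a ha hap, ← hspanp h₂ hp2 b hb hbp] at hu
    obtain ⟨u₁, hu₁, u₂, hu₂, rfl⟩ := Submodule.mem_sup.1 hu
    obtain ⟨c₁, hc₁, c₂, hc₂, rfl⟩ := Submodule.mem_sup.1 hu₁
    obtain ⟨e₁, he₁, e₂, he₂, rfl⟩ := Submodule.mem_sup.1 hu₂
    obtain ⟨x, rfl⟩ := Submodule.mem_span_singleton.1 hc₁
    obtain ⟨y, rfl⟩ := Submodule.mem_span_singleton.1 hc₂
    obtain ⟨x', rfl⟩ := Submodule.mem_span_singleton.1 he₁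
    obtain ⟨z, rfl⟩ := Submodule.mem_span_singleton.1 he₂
    exact ⟨x + x', y, z, by module⟩
  set T := B (dd a f) p b with hT
  set U := B f a b with hU
  set V := B f b a with hV
  have hBbp : B f b p = 0 := by
    have e1 := Basic.eval_line hf b p 1
    have e2 := Basic.eval_line hf b p (-1)
    rw [hf₂ _ hb, hf₂ _ hp2, hf₂ _ (L₂.add_mem hb (L₂.smul_mem _ hp2))] at e1 e2
    linear_combination -(e1 - e2) / 2
  have hBpb : B f p b = 0 := by
    have e1 := Basic.eval_line hf p b 1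
    have e2 := Basic.eval_line hf p b (-1)
    rw [hf₂ _ hp2, hf₂ _ hb, hf₂ _ (L₂.add_mem hp2 (L₂.smul_mem _ hb))] at e1 e2
    linear_combination -(e1 - e2) / 2
  have heval : ∀ x y z : K, eval (x • p + y • a + z • b) f = y * z * (T * x + U * y + V * z) := by
    intro x y z
    have hq := Tritangent.quad_expand hf p a b x y
    rw [hBpb, ← hT, ← hU] at hq
    rw [Basic.eval_line hf, hf₁ _ (hmem1 x y), hf₂ _ hb, Basic.B_add_right, Basic.B_smul_right,
      Basic.B_smul_right, hBbp, ← hV, hq]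
    ring
  have hne0 : T ≠ 0 ∨ U ≠ 0 ∨ V ≠ 0 := by
    by_contra h
    push Not at h
    refine no_plane hf hsm P hP fun u hu => ?_
    obtain ⟨x, y, z, rfl⟩ := hcoord u hu
    rw [heval, h.1, h.2.1, h.2.2]; ring
  let φ : (Fin 3 → K) →ₗ[K] (Fin 5 → K) := (Pi.basisFun K (Fin 3)).constr K ![p, a, b]
  have hφ : ∀ v, φ v = v 0 • p + v 1 • a + v 2 • b := fun v => by
    simp [φ, Module.Basis.constr_apply_fintype, Fin.sum_univ_three]
  let l : (Fin 3 → K) →ₗ[K] K := T • LinearMap.proj 0 + U • LinearMap.proj 1 + V • LinearMap.proj 2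
  let M₃ := (LinearMap.ker l).map φ
  have hM₃ : Module.finrank K ↥M₃ ≤ 2 := by
    refine (Submodule.finrank_map_le _ _).trans ?_
    have hl : l ≠ 0 := fun h => by
      have e0 := LinearMap.congr_fun h (Pi.single 0 1)
      have e1 := LinearMap.congr_fun h (Pi.single 1 1)
      have e2 := LinearMap.congr_fun h (Pi.single 2 1)
      simp [l, Pi.single_apply] at e0 e1 e2
      tauto
    have := LinearMap.finrank_range_add_finrank_ker l
    rw [LinearMap.range_eq_top.mpr (LinearMap.surjective hl), finrank_top, Module.finrank_self,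
      Module.finrank_fin_fun] at this
    omega
  have hclass : ∀ M : Submodule K (Fin 5 → K), Module.finrank K ↥M = 2 → (∀ u ∈ M, eval u f = 0) →
      M ≤ P → M = L₁ ∨ M = L₂ ∨ M = M₃ := by
    intro M hM hMf hMP
    obtain ⟨i, hi⟩ := TwentySeven.le_of_forall_or M ![L₁, L₂, M₃] fun u hu => by
      obtain ⟨x, y, z, rfl⟩ := hcoord u (hMP hu)
      have h := hMf _ hu
      rw [heval] at h
      rcases mul_eq_zero.1 h with h | h
      · rcases mul_eq_zero.1 h with h | h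
        · exact ⟨1, by simpa [h] using hmem2 x z⟩
        · exact ⟨0, by simpa [h] using hmem1 x y⟩
      · exact ⟨2, ![x, y, z], by simpa [l] using h, by simp [hφ]⟩
    fin_cases i
    · exact Or.inl (Submodule.eq_of_le_of_finrank_le hi (h₁.trans hM.symm).le)
    · exact Or.inr (Or.inl (Submodule.eq_of_le_of_finrank_le hi (h₂.trans hM.symm).le))
    · exact Or.inr (Or.inr (Submodule.eq_of_le_of_finrank_le hi (hM₃.trans hM.symm.le)))
  refine ⟨insert (L₁ ⊓ L₂) {g | ∃ M : Submodule K (Fin 5 → K), Module.finrank K ↥M = 2 ∧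
    (∀ u ∈ M, eval u f = 0) ∧ M ≤ P ∧ M ≠ L₁ ∧ M ⊓ L₁ ≠ ⊥ ∧ g = M ⊓ L₁}, ?_, ?_, ?_⟩
  · refine Set.Finite.insert _ (Set.Finite.subset
      (Set.toFinite ({L₁ ⊓ L₁, L₂ ⊓ L₁, M₃ ⊓ L₁} : Set (Submodule K (Fin 5 → K)))) ?_)
    rintro g ⟨M, hM, hMf, hMP, -, -, rfl⟩
    rcases hclass M hM hMf hMP with rfl | rfl | rfl <;> simp
  · rintro g (rfl | ⟨M, hM, -, -, hne', hm, rfl⟩)
    · exact ⟨hinf, inf_le_left⟩
    · exact ⟨hlow M hM hne' hm, inf_le_right⟩
  · intro L hL hLf hm1 hm2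
    by_cases hL1 : L = L₁
    · exact ⟨_, Set.mem_insert _ _, hL1 ▸ inf_le_left⟩
    by_cases hLP : L ≤ P
    · exact ⟨L ⊓ L₁, Set.mem_insert_of_mem _ ⟨L, hL, hLf, hLP, hL1, hm1, rfl⟩, inf_le_left⟩
    · refine ⟨_, Set.mem_insert _ _, ?_⟩
      have hlt : L ⊓ P < L := lt_of_le_of_ne inf_le_left fun h => hLP (inf_eq_left.1 h)
      have h1 := Submodule.finrank_lt_finrank_of_lt hlt
      have e1 : L ⊓ L₁ = L ⊓ P := Submodule.eq_of_le_of_finrank_le (inf_le_inf_left _ le_sup_left)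
        (by rw [hlow L hL hL1 hm1]; omega)
      have e2 : L ⊓ L₂ = L ⊓ P := Submodule.eq_of_le_of_finrank_le (inf_le_inf_left _ le_sup_right)
        (by
          have h0 : Module.finrank K ↥(L ⊓ L₂) ≠ 0 := fun h' => hm2 (Submodule.finrank_eq_zero.1 h')
          omega)
      have hle : L ⊓ P ≤ L₁ ⊓ L₂ := le_inf (e1 ▸ inf_le_right) (e2 ▸ inf_le_right)
      have e3 := Submodule.eq_of_le_of_finrank_le hle (by
        rw [hinf, ← e1, hlow L hL hL1 hm1])
      exact e3 ▸ inf_le_left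

end Groth.Agent.Cubic.ThreefoldMeet
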